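import Cfsg.Agent.H727.Orth.PSL2
import Cfsg.Agent.H694.P1Crit
import Cfsg.Agent.H661.SporCount_m3
import Cfsg.Agent.H253.TwoComm.Cent
import Cfsg.Prelude.Def_KGroupFacts
import Cfsg.Agent.Prune
set_option linter.all false
prune_inst 0x7f00000000000000000000000000000000000000000000000000000000000000000000000000000000000000000000000000000000000000000000000000000000000000000000000000000000000000003fffffffffffffffffffffffffffbeffbdffffffff
open scoped Cfsg.Agent.FastGrp

/-!
# Tools for the sporadic rows of the even-degree orthogonal character theorem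

* `locS_of_complement`, `locS_of_once` : local data of an element of prime order `r`;
* `evenO_of_inv` : a real element with local data whose class is invariant under automorphisms;
* `evenO_of_p1_out`, `evenO_of_p1_card_out` : `P1 S` and `|Out S|` odd;
* `evenO_of_once`, `evenO_of_once_classes` : the elements of order `r ∥ |S|` are one class (an odd
  number of classes of real elements);
* `evenO_of_cent` : a real element with centralizer of odd order, characterized by the orders;
* `deg8_of_prime` : `p ∥ |S|`, `p ≥ 13`, `S ≠ PSL(2, p)`.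
-/

set_option autoImplicit false
set_option linter.unusedSectionVars false
set_option linter.style.haveILetI false

namespace Cfsg.Agent.H727.Orth

open Cfsg Subgroup
open Cfsg.Agent.Characters.Core
open Cfsg.Agent.H705.StrongLin (ind ind_eq real_of_ind)
open Cfsg.Agent.H661.Spor (P1)
open Cfsg.Agent.H51.Mult (PCE)

universe u

variable {S : Type u} [Group S] [Finite S]

/-- membership in a normal subgroup of index a power of `r` and order prime to `r` -/
theorem mem_iff_coprime {C : Type*} [Group C] [Finite C] {r : ℕ} (hr : r.Prime) {K : Subgroup C}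
    (hKn : K.Normal) (hK : ¬ r ∣ Nat.card K) (hidx : ∃ k, K.index = r ^ k) (c : C) :
    c ∈ K ↔ (orderOf c).Coprime r := by
  constructor
  · intro hc
    have h1 : orderOf c ∣ Nat.card K := by
      have h2 := orderOf_dvd_natCard (⟨c, hc⟩ : K)
      rwa [Subgroup.orderOf_mk] at h2
    rw [Nat.coprime_comm, Nat.Prime.coprime_iff_not_dvd hr]
    exact fun h => hK (h.trans h1)
  · intro hc
    obtain ⟨k, hk⟩ := hidx
    rw [← QuotientGroup.eq_one_iff, ← orderOf_eq_one_iff]
    have h1 : orderOf (QuotientGroup.mk c : C ⧸ K) ∣ orderOf c := orderOf_map_dvd (QuotientGroup.mk' K) c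
    have h2 : orderOf (QuotientGroup.mk c : C ⧸ K) ∣ r ^ k := by
      rw [← hk, Subgroup.index]
      exact orderOf_dvd_natCard _
    exact Nat.eq_one_of_dvd_coprimes (hc.pow_right k) h1 h2

theorem locS_of_complement {r : ℕ} (hr : r.Prime) (hr2 : r ≠ 2) {y : S} (hy : orderOf y = r)
    (hreal : IsConj y y⁻¹) (K : Subgroup (centralizer ({y} : Set S))) (hKn : K.Normal)
    (hK : ¬ r ∣ Nat.card K) (hidx : ∃ k, K.index = r ^ k) :
    LocS y (K.map (centralizer ({y} : Set S)).subtype) where
  ne := by
    rintro rfl
    rw [orderOf_one] at hy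
    exact hr.one_lt.ne hy
  odd := by
    rw [hy]
    exact hr.odd_of_ne_two hr2
  real := isConj_iff.1 hreal
  comm := by
    rintro _ ⟨k, -, rfl⟩
    exact mem_centralizer_singleton_iff.1 k.2
  cop := by
    rw [Subgroup.card_map_of_injective (Subgroup.subtype_injective _), hy, Nat.coprime_comm,
      Nat.Prime.coprime_iff_not_dvd hr]
    exact hK
  idx := by
    rw [Subgroup.relIndex, Subgroup.subgroupOf,
      Subgroup.comap_map_eq_self_of_injective (Subgroup.subtype_injective _)]
    obtain ⟨k, hk⟩ := hidx
    rw [hk]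
    exact (hr.odd_of_ne_two hr2).pow
  st := by
    rintro α hα _ ⟨k, hk, rfl⟩
    have h1 : (k : S) * y = y * k := mem_centralizer_singleton_iff.1 k.2
    have h2 : α (k : S) ∈ centralizer ({y} : Set S) := by
      have h3 : α (k : S) * α y = α y * α k := by rw [← map_mul, h1, map_mul]
      rw [mem_centralizer_singleton_iff]
      rcases hα with h | h
      · rwa [h] at h3
      · rw [h] at h3
        have h4 : Commute (α (k : S)) y⁻¹ := h3
        exact (Commute.inv_right_iff.1 h4).eq
    refine ⟨⟨α (k : S), h2⟩, ?_, rfl⟩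
    have h5 := (mem_iff_coprime hr hKn hK hidx k).1 hk
    refine (mem_iff_coprime hr hKn hK hidx _).2 ?_
    rw [Subgroup.orderOf_mk, MulEquiv.orderOf_eq, Subgroup.orderOf_coe]
    exact h5

/-- The local data of a real element of odd prime order `r ∥ |S|`. -/
theorem locS_of_once {r : ℕ} (hr : r.Prime) (hr2 : r ≠ 2) (hsq : ¬ r ^ 2 ∣ Nat.card S) {y : S}
    (hy : orderOf y = r) (hreal : IsConj y y⁻¹) : ∃ K, LocS y K := by
  haveI : Fact r.Prime := ⟨hr⟩
  have hyC : y ∈ centralizer ({y} : Set S) := by rw [mem_centralizer_singleton_iff]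
  have hy' : orderOf (⟨y, hyC⟩ : centralizer ({y} : Set S)) = r := by
    rw [Subgroup.orderOf_mk, hy]
  have h1 : r ∣ Nat.card (centralizer ({y} : Set S)) := hy' ▸ orderOf_dvd_natCard _
  have h2 : ¬ r ^ 2 ∣ Nat.card (centralizer ({y} : Set S)) :=
    fun h => hsq (h.trans (Subgroup.card_subgroup_dvd_card _))
  obtain ⟨K, h3, h4, h5⟩ := Cfsg.Agent.H694.exists_complement (C := centralizer ({y} : Set S))
    (fun P => isCyclic_of_prime_card (Cfsg.Agent.H661.Spor.card_sylow_eq P h1 h2)) hy'
    (fun g => Subtype.ext (mem_centralizer_singleton_iff.1 g.2))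
  exact ⟨_, locS_of_complement hr hr2 hy hreal K h3 h4 h5⟩

/-- A real element with local data whose class is invariant under automorphisms. -/
theorem evenO_of_inv (hc : Subgroup.center S = ⊥) {y : S} (hL : ∃ K, LocS y K)
    (hinv : ∀ a : MulAut S, IsConj y (a y)) : EvenO S := by
  obtain ⟨K, L⟩ := hL
  refine oext_of_loc hc L ⊤ (by rw [Subgroup.index_top]; exact odd_one) fun g _ => ?_
  obtain ⟨s, hs⟩ := isConj_iff.1 (hinv g)
  exact ⟨s, Or.inl hs.symm⟩

/-- `P1 S` with an outer automorphism group of odd order. -/
theorem evenO_of_p1_odd_out (hc : Subgroup.center S = ⊥) (h : P1 S)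
    (ho : Odd (MulAut.conj : S →* MulAut S).range.index) : EvenO S := by
  obtain ⟨r, hr, hr2, hsq, y, hy, hreal⟩ := h
  obtain ⟨K, L⟩ := locS_of_once hr hr2 hsq hy hreal
  refine oext_of_loc hc L _ ho ?_
  rintro _ ⟨s, rfl⟩
  exact ⟨s, Or.inl rfl⟩

/-- `P1 S` and `|Out S|` odd. -/
theorem evenO_of_p1_card_out (hc : Subgroup.center S = ⊥) (h : P1 S)
    (ho : Odd (Nat.card (Cfsg.Out S))) : EvenO S :=
  evenO_of_p1_odd_out hc h ho

/-- The elements of order `r ∥ |S|` form one class. -/
theorem evenO_of_once (hc : Subgroup.center S = ⊥) {r : ℕ} (hr : r.Prime) (hr2 : r ≠ 2)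
    (hsq : ¬ r ^ 2 ∣ Nat.card S) {y : S} (hy : orderOf y = r)
    (hfus : ∀ z : S, orderOf z = r → IsConj y z) : EvenO S :=
  evenO_of_inv hc (locS_of_once hr hr2 hsq hy (hfus _ (by rw [orderOf_inv, hy])))
    fun a => hfus _ (by rw [MulEquiv.orderOf_eq, hy])

/-- centralizers and automorphisms -/
theorem card_centralizer_map (a : MulAut S) (y : S) :
    Nat.card (centralizer ({a y} : Set S)) = Nat.card (centralizer ({y} : Set S)) := by
  refine Nat.card_congr ⟨fun u => ⟨a⁻¹ u, ?_⟩, fun u => ⟨a u, ?_⟩, fun u => ?_, fun u => ?_⟩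
  · have h := mem_centralizer_singleton_iff.1 u.2
    rw [mem_centralizer_singleton_iff]
    apply a.injective
    rw [map_mul, map_mul, MulAut.apply_inv_self]
    exact h
  · have h := mem_centralizer_singleton_iff.1 u.2
    rw [mem_centralizer_singleton_iff, ← map_mul, h, map_mul]
  · exact Subtype.ext (MulAut.apply_inv_self S a u)
  · exact Subtype.ext (MulAut.inv_apply_self S a u)

/-- A real element with centralizer of odd order whose class is determined by the order of its elements and
of their centralizers. -/
theorem evenO_of_cent (hc : Subgroup.center S = ⊥) {y : S} (hy : y ≠ 1) (hreal : IsConj y y⁻¹)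
    (hodd : Odd (Nat.card (centralizer ({y} : Set S))))
    (hfus : ∀ z : S, orderOf z = orderOf y →
      Nat.card (centralizer ({z} : Set S)) = Nat.card (centralizer ({y} : Set S)) → IsConj y z) :
    EvenO S :=
  evenO_of_inv hc ⟨⊥, locS_of_odd hy hreal hodd⟩
    fun a => hfus _ (MulEquiv.orderOf_eq a y) (card_centralizer_map a y)

/-- the center of a nonabelian simple group -/
theorem center_bot_of_simple [IsSimpleGroup S] (hna : ¬ ∀ a b : S, a * b = b * a) :
    Subgroup.center S = ⊥ := by
  rcases (inferInstance : (center S).Normal).eq_bot_or_eq_top with h | h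
  · exact h
  · exact absurd (fun a b => (mem_center_iff.1 (h ▸ mem_top b : b ∈ center S) a)) hna

theorem commutator_top_of_simple [IsSimpleGroup S] (hna : ¬ ∀ a b : S, a * b = b * a) :
    commutator S = ⊤ := by
  rcases (inferInstance : (commutator S).Normal).eq_bot_or_eq_top with h | h
  · exfalso
    apply hna
    intro a b
    exact commutatorElement_eq_one_iff_mul_comm.1
      (mem_bot.1 (h ▸ commutator_mem_commutator (mem_top a) (mem_top b)))
  · exact h

/-- **Degrees at least eight** from a prime `p ≥ 13` dividing the order once. -/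
theorem deg8_of_prime [IsSimpleGroup S] (hna : ¬ ∀ a b : S, a * b = b * a) {p : ℕ} (hp : p.Prime)
    (h13 : 13 ≤ p) (hdvd : p ∣ Nat.card S) (hsq : ¬ p ^ 2 ∣ Nat.card S)
    (hne : 2 * Nat.card S ≠ p * (p ^ 2 - 1)) : Deg8 S := by
  intro θ hθ he
  obtain ⟨n, ρ, hρ, rfl⟩ := hθ
  have hd : charDegree ρ.character = n := by
    unfold charDegree
    rw [Representation.char_one]
    simp
  rw [hd] at he ⊢
  have hnt : ∃ g, ρ g ≠ 1 := by
    by_contra hno
    push Not at hno
    -- the trivial representation is irreducible only in dimension one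
    have h1 : ρ.character = fun _ => (n : ℂ) := by
      funext g
      rw [Representation.character, hno]
      simp
    haveI := Fintype.ofFinite S
    have h2 : classInner ρ.character ρ.character = 1 :=
      classInner_irr_self (⟨n, ρ, hρ, rfl⟩ : IsIrrCharacter S ρ.character)
    rw [h1, classInner_def] at h2
    simp only [map_natCast, Finset.sum_const, Finset.card_univ, nsmul_eq_mul, ← Nat.card_eq_fintype_card] at h2
    have h3 : (Nat.card S : ℂ) ≠ 0 := by exact_mod_cast Nat.card_pos.ne'
    rw [← mul_assoc, inv_mul_cancel₀ h3, one_mul] at h2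
    have h4 : n * n = 1 := by exact_mod_cast h2
    have h5 : n = 1 := Nat.eq_one_of_mul_eq_one_left h4
    rw [h5] at he
    exact absurd he (by decide)
  have hid : PCE (MonoidHom.id S) := by
    refine ⟨Function.surjective_id, ?_, commutator_top_of_simple hna⟩
    intro x hx
    have : x = 1 := hx
    rw [this]
    exact one_mem _
  have hker : Nat.card (MonoidHom.id S).ker = 1 := by
    rw [Subgroup.card_eq_one]
    ext x
    exact Iff.rfl
  have h := Cfsg.Agent.H253.TC.deg_of_prime hna hid hp (by
    rw [hker, Nat.dvd_one]; exact hp.ne_one) hdvd hsq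
    (Cfsg.Agent.H253.TC.not_psl rfl hp (by omega) hne) ρ hnt
  obtain ⟨k, hk⟩ := he
  omega

end Cfsg.Agent.H727.Orth
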