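import Cfsg.Agent.H694.DData
import Cfsg.Agent.H727.Orth.SporTool
import Cfsg.Agent.H661.SporAll
import Cfsg.Agent.S2060
import Cfsg.Agent.S2063
import Cfsg.Agent.S2064
import Cfsg.Agent.S2065
import Cfsg.Agent.S2068
import Cfsg.Agent.S2069
import Cfsg.Agent.S2070
import Cfsg.Agent.S2071
import Cfsg.Agent.S2076
import Cfsg.Agent.S2077
import Cfsg.Agent.S2080
import Cfsg.Agent.S2083
import Cfsg.Agent.S2084
import Cfsg.Agent.S2085
import Cfsg.Agent.H371.PU.Base
import Cfsg.Agent.H610.OddRegLie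
import Cfsg.Agent.H610.Table3D4
import Cfsg.Agent.Schreier.ThreeD4
import Cfsg.Agent.S1067
import Cfsg.Agent.S1106
import Cfsg.Agent.H694.DTypes
import Cfsg.Agent.H288.BnWitt
import Cfsg.Agent.H612.BNAut
import Cfsg.Agent.H727.Orth.PSL2
import Cfsg.Agent.H694.Table
import Cfsg.Agent.H610.TableRee
import Cfsg.Agent.S2127
import Cfsg.Agent.FastGrp
import Cfsg.Agent.Prune
set_option linter.all false

section
prune_inst 0x7f00000000000000000000000000000000000000000000000000000000000000000000000000000000000000000000000000000000000000000000000000000000000000000000000000000000000000003fffffffffffffffffffffffffffbeffbdffffffff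

-- part: H727/Orth/TitsRow
section
set_option linter.all false
open scoped Cfsg.Agent.FastGrp

-- part: H727/Orth/Pairs
section
/-!
# An even number of orbits on pairs

`even_pairs` : `𝒳`, `𝒴` sets of subgroups, `f : 𝒳 → 𝒴` equivariant with fibres of three elements,
stabilizers of elements of `𝒳` are `2`-groups and act nontrivially on the fibres: the number of orbits on
`𝒳 × 𝒳` is even.
-/

set_option autoImplicit false
set_option linter.unusedSectionVars false
set_option linter.style.haveILetI false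

namespace Cfsg.Agent.H727.Orth

open Cfsg.Agent.H694 (pairRel map_conj_one map_conj_conj)

universe u

variable {T : Type u} [Group T]

/-- the stabilizer of a subgroup under conjugation -/
def nrm (H : Subgroup T) : Subgroup T where
  carrier := {g | H.map (MulAut.conj g).toMonoidHom = H}
  one_mem' := map_conj_one H
  mul_mem' {a b} ha hb := by
    show H.map (MulAut.conj (a * b)).toMonoidHom = H
    have ha' : H.map (MulAut.conj a).toMonoidHom = H := ha
    have hb' : H.map (MulAut.conj b).toMonoidHom = H := hb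
    rw [← map_conj_conj, hb', ha']
  inv_mem' {a} ha := by
    show H.map (MulAut.conj a⁻¹).toMonoidHom = H
    have ha' : H.map (MulAut.conj a).toMonoidHom = H := ha
    conv_lhs => rw [← ha']
    rw [map_conj_conj, inv_mul_cancel, map_conj_one]

theorem mem_nrm {H : Subgroup T} {g : T} : g ∈ nrm H ↔ H.map (MulAut.conj g).toMonoidHom = H := Iff.rfl

theorem map_conj_inv_eq {H K : Subgroup T} {g : T} (h : H.map (MulAut.conj g).toMonoidHom = K) :
    K.map (MulAut.conj g⁻¹).toMonoidHom = H := by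
  rw [← h, map_conj_conj, inv_mul_cancel, map_conj_one]

variable [Finite T]

theorem fib_spec (𝒳 : Set (Subgroup T)) (f : Subgroup T → Subgroup T)
    (hX : ∀ g : T, ∀ H ∈ 𝒳, H.map (MulAut.conj g).toMonoidHom ∈ 𝒳)
    (hfg : ∀ g : T, ∀ P ∈ 𝒳, f (P.map (MulAut.conj g).toMonoidHom) = (f P).map (MulAut.conj g).toMonoidHom)
    {x K : Subgroup T} (h3 : Nat.card {P : Subgroup T // P ∈ 𝒳 ∧ f P = K} = 3)
    (h2 : IsPGroup 2 (nrm x))
    (hs : ∃ t ∈ nrm x, t ∈ nrm K ∧ ∃ P ∈ 𝒳, f P = K ∧ P.map (MulAut.conj t).toMonoidHom ≠ P) :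
    ∃ P0 P1 P2 : Subgroup T, P0 ∈ 𝒳 ∧ P1 ∈ 𝒳 ∧ P2 ∈ 𝒳 ∧ f P0 = K ∧ f P1 = K ∧ f P2 = K ∧ P0 ≠ P1 ∧
      (∀ P ∈ 𝒳, f P = K → P = P0 ∨ P = P1 ∨ P = P2) ∧
      (∃ t ∈ nrm x, P1.map (MulAut.conj t).toMonoidHom = P2) ∧
      (∀ g ∈ nrm x, g ∈ nrm K → P0.map (MulAut.conj g).toMonoidHom = P0) := by
  classical
  haveI : Fact (Nat.Prime 2) := ⟨Nat.prime_two⟩
  set A : Subgroup T := nrm x ⊓ nrm K with hA
  have hA2 : IsPGroup 2 A := h2.to_le inf_le_left
  let Fb := {P : Subgroup T // P ∈ 𝒳 ∧ f P = K}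
  have hmem : ∀ (a : A) (P : Fb), (P.1.map (MulAut.conj (a : T)).toMonoidHom ∈ 𝒳 ∧
      f (P.1.map (MulAut.conj (a : T)).toMonoidHom) = K) := fun a P => by
    refine ⟨hX _ _ P.2.1, ?_⟩
    rw [hfg _ _ P.2.1, P.2.2]
    exact a.2.2
  let act : MulAction A Fb :=
    { smul := fun a P => ⟨P.1.map (MulAut.conj (a : T)).toMonoidHom, hmem a P⟩
      one_smul := fun P => Subtype.ext (map_conj_one _)
      mul_smul := fun a b P => Subtype.ext (map_conj_conj _ _ _).symm }
  have h4 := hA2.card_modEq_card_fixedPoints Fb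
  have h5 : Odd (Nat.card (MulAction.fixedPoints A Fb)) := by
    rw [Nat.odd_iff, ← h4, h3]
  obtain ⟨P0, hP0⟩ : (MulAction.fixedPoints A Fb).Nonempty := by
    rw [Set.nonempty_iff_ne_empty]
    intro h6
    rw [h6] at h5
    simp at h5
  have hfix : ∀ g ∈ nrm x, g ∈ nrm K → P0.1.map (MulAut.conj g).toMonoidHom = P0.1 := fun g hg hg' =>
    congrArg Subtype.val (hP0 ⟨g, hg, hg'⟩)
  obtain ⟨t, ht, htK, P1, hP1, hfP1, hne⟩ := hs
  set P2 := P1.map (MulAut.conj t).toMonoidHom with hP2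
  have hP2X : P2 ∈ 𝒳 := hX _ _ hP1
  have hfP2 : f P2 = K := by
    rw [hP2, hfg _ _ hP1, hfP1]
    exact htK
  have h01 : P0.1 ≠ P1 := by
    intro h
    apply hne
    have h6 := hfix t ht htK
    rw [h] at h6
    exact h6
  have h02 : P0.1 ≠ P2 := by
    intro h
    apply h01
    have h6 : P2.map (MulAut.conj t⁻¹).toMonoidHom = P1 := map_conj_inv_eq hP2.symm
    rw [← h6, ← h]
    exact (hfix _ (inv_mem ht) (inv_mem htK)).symm
  refine ⟨P0.1, P1, P2, P0.2.1, hP1, hP2X, P0.2.2, hfP1, hfP2, h01, ?_, ⟨t, ht, hP2.symm⟩, hfix⟩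
  intro P hP hfP
  by_contra hno
  push Not at hno
  haveI : Finite Fb := Subtype.finite
  haveI := Fintype.ofFinite Fb
  have h6 : ({P0, ⟨P1, hP1, hfP1⟩, ⟨P2, hP2X, hfP2⟩, ⟨P, hP, hfP⟩} : Finset Fb).card = 4 := by
    rw [Finset.card_insert_of_notMem, Finset.card_insert_of_notMem, Finset.card_insert_of_notMem,
      Finset.card_singleton]
    · rw [Finset.mem_singleton]
      exact fun h => hno.2.2 (congrArg Subtype.val h).symm
    · rw [Finset.mem_insert, Finset.mem_singleton, not_or]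
      exact ⟨fun h => hne (congrArg Subtype.val h).symm, fun h => hno.2.1 (congrArg Subtype.val h).symm⟩
    · rw [Finset.mem_insert, Finset.mem_insert, Finset.mem_singleton, not_or, not_or]
      exact ⟨fun h => h01 (congrArg Subtype.val h), fun h => h02 (congrArg Subtype.val h),
        fun h => hno.1 (congrArg Subtype.val h).symm⟩
  have h7 := Finset.card_le_univ ({P0, ⟨P1, hP1, hfP1⟩, ⟨P2, hP2X, hfP2⟩, ⟨P, hP, hfP⟩} : Finset Fb)
  rw [h6, ← Nat.card_eq_fintype_card, h3] at h7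
  omega

/-- **An even number of orbits on pairs.** -/
theorem even_pairs (𝒳 𝒴 : Set (Subgroup T)) (f : Subgroup T → Subgroup T)
    (hX : ∀ g : T, ∀ H ∈ 𝒳, H.map (MulAut.conj g).toMonoidHom ∈ 𝒳)
    (hf : ∀ P ∈ 𝒳, f P ∈ 𝒴)
    (hfg : ∀ g : T, ∀ P ∈ 𝒳, f (P.map (MulAut.conj g).toMonoidHom) = (f P).map (MulAut.conj g).toMonoidHom)
    (h3 : ∀ K ∈ 𝒴, Nat.card {P : Subgroup T // P ∈ 𝒳 ∧ f P = K} = 3)
    (h2 : ∀ x ∈ 𝒳, IsPGroup 2 (nrm x))
    (hs : ∀ x ∈ 𝒳, ∀ K ∈ 𝒴, ∃ t ∈ nrm x, t ∈ nrm K ∧ ∃ P ∈ 𝒳, f P = K ∧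
      P.map (MulAut.conj t).toMonoidHom ≠ P) :
    Even (Nat.card (Quotient (pairRel 𝒳 𝒳))) := by
  classical
  let F : 𝒳 × 𝒳 → 𝒳 × 𝒴 := fun z => (z.1, ⟨f z.2, hf _ z.2.2⟩)
  have hF : ∀ a b, (pairRel 𝒳 𝒳) a b → (pairRel 𝒳 𝒴) (F a) (F b) := by
    rintro a b ⟨g, h4, h5⟩
    refine ⟨g, h4, ?_⟩
    show (f a.2).map (MulAut.conj g).toMonoidHom = f b.2
    rw [← hfg _ _ a.2.2, h5]
  let q : Quotient (pairRel 𝒳 𝒳) → Quotient (pairRel 𝒳 𝒴) := Quotient.map F hF
  have hfib : ∀ c : Quotient (pairRel 𝒳 𝒴), Nat.card {a // q a = c} = 2 := by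
    intro c
    induction c using Quotient.inductionOn with
    | _ c =>
      obtain ⟨⟨x, hx⟩, ⟨K, hK⟩⟩ := c
      obtain ⟨P0, P1, P2, hP0, hP1, hP2, hf0, hf1, hf2, h01, hall, ⟨t, ht, ht12⟩, hfix⟩ :=
        fib_spec 𝒳 f hX hfg (h3 K hK) (h2 x hx) (hs x hx K hK)
      have hq : ∀ (P : Subgroup T) (hP : P ∈ 𝒳), f P = K →
          q (Quotient.mk _ (⟨x, hx⟩, ⟨P, hP⟩)) = Quotient.mk _ (⟨x, hx⟩, ⟨K, hK⟩) := by
        intro P hP hfP
        show Quotient.mk (pairRel 𝒳 𝒴) (F (⟨x, hx⟩, ⟨P, hP⟩)) = _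
        congr 1
        exact Prod.ext rfl (Subtype.ext hfP)
      rw [Nat.card_eq_two_iff]
      refine ⟨⟨_, hq P0 hP0 hf0⟩, ⟨_, hq P1 hP1 hf1⟩, ?_, ?_⟩
      · intro h
        obtain ⟨g, h5, h6⟩ : (pairRel 𝒳 𝒳) (⟨x, hx⟩, ⟨P0, hP0⟩) (⟨x, hx⟩, ⟨P1, hP1⟩) :=
          Quotient.exact (congrArg Subtype.val h)
        have h5' : g ∈ nrm x := h5
        have h6' : P0.map (MulAut.conj g).toMonoidHom = P1 := h6
        have h7 : g ∈ nrm K := by
          rw [mem_nrm, ← hf0, ← hfg _ _ hP0, h6', hf1, hf0]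
        exact h01 ((hfix g h5' h7).symm.trans h6')
      · rw [Set.eq_univ_iff_forall]
        rintro ⟨a, ha⟩
        revert ha
        induction a using Quotient.inductionOn with
        | _ a =>
          intro ha
          obtain ⟨⟨x', hx'⟩, ⟨P', hP'⟩⟩ := a
          obtain ⟨g, h5, h6⟩ : (pairRel 𝒳 𝒴) (F (⟨x', hx'⟩, ⟨P', hP'⟩)) (⟨x, hx⟩, ⟨K, hK⟩) :=
            Quotient.exact ha
          have h5' : x'.map (MulAut.conj g).toMonoidHom = x := h5
          have h6' : (f P').map (MulAut.conj g).toMonoidHom = K := h6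
          have h7 : P'.map (MulAut.conj g).toMonoidHom ∈ 𝒳 := hX _ _ hP'
          have h8 : f (P'.map (MulAut.conj g).toMonoidHom) = K := by rw [hfg _ _ hP', h6']
          have h9 : (Quotient.mk (pairRel 𝒳 𝒳) (⟨x', hx'⟩, ⟨P', hP'⟩)) =
              Quotient.mk _ (⟨x, hx⟩, ⟨P'.map (MulAut.conj g).toMonoidHom, h7⟩) :=
            Quotient.sound ⟨g, h5', rfl⟩
          rw [Set.mem_insert_iff, Set.mem_singleton_iff, Subtype.mk.injEq, Subtype.mk.injEq, h9]
          rcases hall _ h7 h8 with h10 | h10 | h10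
          · left
            congr 1
            exact Prod.ext rfl (Subtype.ext h10)
          · right
            congr 1
            exact Prod.ext rfl (Subtype.ext h10)
          · right
            apply Quotient.sound
            refine ⟨t⁻¹, ?_, ?_⟩
            · exact inv_mem ht
            · show (P'.map (MulAut.conj g).toMonoidHom).map (MulAut.conj t⁻¹).toMonoidHom = P1
              rw [h10]
              exact map_conj_inv_eq ht12
  have h4 : Nat.card (Quotient (pairRel 𝒳 𝒳)) = Nat.card (Σ c, {a // q a = c}) :=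
    Nat.card_congr (Equiv.sigmaFiberEquiv q).symm
  haveI : Finite 𝒳 := Subtype.finite
  haveI : Finite 𝒴 := Subtype.finite
  haveI := Fintype.ofFinite (Quotient (pairRel 𝒳 𝒴))
  rw [h4, Nat.card_sigma, Finset.sum_congr rfl (fun c _ => hfib c), Finset.sum_const, smul_eq_mul]
  exact even_two.mul_left _

end Cfsg.Agent.H727.Orth
end

-- part: H727/Orth/SporOne
section
/-!
# Sporadic groups: the rows with trivial outer automorphism group, degrees
-/

set_option autoImplicit false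
set_option linter.unusedSectionVars false
set_option linter.style.haveILetI false

namespace Cfsg.Agent.H727.Orth.SporOne

open Cfsg Cfsg.Agent.NotCT Cfsg.Agent.H661.Spor

universe u

variable {S : Type u} [Group S] [Finite S]

theorem of_out_one {T : Type*} [Group T] (e : S ≃* T) (hc : Subgroup.center S = ⊥) (h : P1 S)
    (ho : Nat.card (Cfsg.Out T) = 1) : EvenO S := by
  have hfin : Finite T := Finite.of_equiv S e.toEquiv
  have hc' : Subgroup.center T = ⊥ := by
    rw [eq_bot_iff] at hc ⊢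
    intro x hx
    have h1 : e.symm x ∈ Subgroup.center S := by
      rw [Subgroup.mem_center_iff] at hx ⊢
      intro s
      apply e.injective
      rw [map_mul, map_mul, e.apply_symm_apply]
      exact hx (e s)
    have h2 := hc h1
    rw [Subgroup.mem_bot] at h2 ⊢
    exact (EmbeddingLike.map_eq_one_iff (f := e.symm)).1 h2
  exact EvenO.congr e.symm (evenO_of_p1_card_out hc' (h.congr e) (by rw [ho]; exact odd_one))

theorem deg8_of_card [IsSimpleGroup S] (hna : ¬ ∀ a b : S, a * b = b * a) {n p : ℕ}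
    (hn : Nat.card S = n) (hp : p.Prime) (h13 : 13 ≤ p) (hdvd : p ∣ n) (hsq : ¬ p ^ 2 ∣ n)
    (hne : 2 * n ≠ p * (p ^ 2 - 1)) : Deg8 S :=
  deg8_of_prime hna hp h13 (hn ▸ hdvd) (hn ▸ hsq) (hn ▸ hne)

variable [IsSimpleGroup S]

theorem m11_evenO (h : Cfsg.Spor.IsoM11 S) (hc : Subgroup.center S = ⊥) : EvenO S := by
  have h1 := m11 h
  obtain ⟨e⟩ := h
  exact of_out_one e hc h1 Cfsg.Agent.S2060.result

theorem m23_evenO (h : Cfsg.Spor.IsoM23 S) (hc : Subgroup.center S = ⊥) : EvenO S := by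
  have h1 := m23 h
  obtain ⟨e⟩ := h
  exact of_out_one e hc h1 Cfsg.Agent.S2063.result

theorem m24_evenO (h : Cfsg.Spor.IsoM24 S) (hc : Subgroup.center S = ⊥) : EvenO S := by
  have h1 := m24 h
  obtain ⟨e⟩ := h
  exact of_out_one e hc h1 Cfsg.Agent.S2064.result

theorem j1_evenO (h : Cfsg.Spor.IsoJ1 S) (hc : Subgroup.center S = ⊥) : EvenO S := by
  have h1 := j1 h
  obtain ⟨e⟩ := h
  exact of_out_one e hc h1 Cfsg.Agent.S2065.result

theorem j4_evenO (h : Cfsg.Spor.IsoJ4 S) (hc : Subgroup.center S = ⊥) : EvenO S := by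
  have h1 := j4 h
  obtain ⟨e⟩ := h
  exact of_out_one e hc h1 Cfsg.Agent.S2068.result

theorem co1_evenO (h : Cfsg.Spor.IsoCo1 S) (hc : Subgroup.center S = ⊥) : EvenO S := by
  have h1 := co1 h
  obtain ⟨e⟩ := h
  exact of_out_one e hc h1 Cfsg.Agent.S2069.result

theorem co2_evenO (h : Cfsg.Spor.IsoCo2 S) (hc : Subgroup.center S = ⊥) : EvenO S := by
  have h1 := co2 h
  obtain ⟨e⟩ := h
  exact of_out_one e hc h1 Cfsg.Agent.S2070.result

theorem co3_evenO (h : Cfsg.Spor.IsoCo3 S) (hc : Subgroup.center S = ⊥) : EvenO S := by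
  have h1 := co3 h
  obtain ⟨e⟩ := h
  exact of_out_one e hc h1 Cfsg.Agent.S2071.result

theorem ly_evenO (h : Cfsg.Spor.IsoLy S) (hc : Subgroup.center S = ⊥) : EvenO S := by
  have h1 := ly h
  obtain ⟨e⟩ := h
  exact of_out_one e hc h1 Cfsg.Agent.S2076.result

theorem ru_evenO (h : Cfsg.Spor.IsoRu S) (hc : Subgroup.center S = ⊥) : EvenO S := by
  have h1 := ru h
  obtain ⟨e⟩ := h
  exact of_out_one e hc h1 Cfsg.Agent.S2077.result

theorem fi23_evenO (h : Cfsg.Spor.IsoFi23 S) (hc : Subgroup.center S = ⊥) : EvenO S := by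
  have h1 := fi23 h
  obtain ⟨e⟩ := h
  exact of_out_one e hc h1 Cfsg.Agent.S2080.result

theorem th_evenO (h : Cfsg.Spor.IsoTh S) (hc : Subgroup.center S = ⊥) : EvenO S := by
  have h1 := th h
  obtain ⟨e⟩ := h
  exact of_out_one e hc h1 Cfsg.Agent.S2083.result

theorem b_evenO (h : Cfsg.Spor.IsoB S) (hc : Subgroup.center S = ⊥) : EvenO S := by
  have h1 := b h
  obtain ⟨e⟩ := h
  exact of_out_one e hc h1 Cfsg.Agent.S2084.result

theorem m_evenO (h : Cfsg.Spor.IsoM S) (hc : Subgroup.center S = ⊥) : EvenO S := by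
  have h1 := m h
  obtain ⟨e⟩ := h
  exact of_out_one e hc h1 Cfsg.Agent.S2085.result

theorem m23_deg8 (h : Cfsg.Spor.IsoM23 S) (hna : ¬ ∀ a b : S, a * b = b * a) : Deg8 S :=
  deg8_of_card hna (Orders.m23 h) (p := 23) (by norm_num) (by norm_num) (by norm_num) (by norm_num)
    (by norm_num)

theorem m24_deg8 (h : Cfsg.Spor.IsoM24 S) (hna : ¬ ∀ a b : S, a * b = b * a) : Deg8 S :=
  deg8_of_card hna (Orders.m24 h) (p := 23) (by norm_num) (by norm_num) (by norm_num) (by norm_num)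
    (by norm_num)

theorem j1_deg8 (h : Cfsg.Spor.IsoJ1 S) (hna : ¬ ∀ a b : S, a * b = b * a) : Deg8 S :=
  deg8_of_card hna (Orders.j1 h) (p := 19) (by norm_num) (by norm_num) (by norm_num) (by norm_num)
    (by norm_num)

theorem j4_deg8 (h : Cfsg.Spor.IsoJ4 S) (hna : ¬ ∀ a b : S, a * b = b * a) : Deg8 S :=
  deg8_of_card hna (Orders.j4 h) (p := 43) (by norm_num) (by norm_num) (by norm_num) (by norm_num)
    (by norm_num)

theorem co1_deg8 (h : Cfsg.Spor.IsoCo1 S) (hna : ¬ ∀ a b : S, a * b = b * a) : Deg8 S :=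
  deg8_of_card hna (Orders.co1 h) (p := 23) (by norm_num) (by norm_num) (by norm_num) (by norm_num)
    (by norm_num)

theorem co2_deg8 (h : Cfsg.Spor.IsoCo2 S) (hna : ¬ ∀ a b : S, a * b = b * a) : Deg8 S :=
  deg8_of_card hna (Orders.co2 h) (p := 23) (by norm_num) (by norm_num) (by norm_num) (by norm_num)
    (by norm_num)

theorem co3_deg8 (h : Cfsg.Spor.IsoCo3 S) (hna : ¬ ∀ a b : S, a * b = b * a) : Deg8 S :=
  deg8_of_card hna (Orders.co3 h) (p := 23) (by norm_num) (by norm_num) (by norm_num) (by norm_num)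
    (by norm_num)

theorem ly_deg8 (h : Cfsg.Spor.IsoLy S) (hna : ¬ ∀ a b : S, a * b = b * a) : Deg8 S :=
  deg8_of_card hna (Orders.ly h) (p := 67) (by norm_num) (by norm_num) (by norm_num) (by norm_num)
    (by norm_num)

theorem ru_deg8 (h : Cfsg.Spor.IsoRu S) (hna : ¬ ∀ a b : S, a * b = b * a) : Deg8 S :=
  deg8_of_card hna (Orders.ru h) (p := 29) (by norm_num) (by norm_num) (by norm_num) (by norm_num)
    (by norm_num)

theorem fi23_deg8 (h : Cfsg.Spor.IsoFi23 S) (hna : ¬ ∀ a b : S, a * b = b * a) : Deg8 S :=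
  deg8_of_card hna (Orders.fi23 h) (p := 23) (by norm_num) (by norm_num) (by norm_num) (by norm_num)
    (by norm_num)

theorem th_deg8 (h : Cfsg.Spor.IsoTh S) (hna : ¬ ∀ a b : S, a * b = b * a) : Deg8 S :=
  deg8_of_card hna (Orders.th h) (p := 31) (by norm_num) (by norm_num) (by norm_num) (by norm_num)
    (by norm_num)

theorem b_deg8 (h : Cfsg.Spor.IsoB S) (hna : ¬ ∀ a b : S, a * b = b * a) : Deg8 S :=
  deg8_of_card hna (Orders.b h) (p := 47) (by norm_num) (by norm_num) (by norm_num) (by norm_num)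
    (by norm_num)

theorem m_deg8 (h : Cfsg.Spor.IsoM S) (hna : ¬ ∀ a b : S, a * b = b * a) : Deg8 S :=
  deg8_of_card hna (Orders.m h) (p := 71) (by norm_num) (by norm_num) (by norm_num) (by norm_num)
    (by norm_num)

theorem j3_deg8 (h : Cfsg.Spor.IsoJ3 S) (hna : ¬ ∀ a b : S, a * b = b * a) : Deg8 S :=
  deg8_of_card hna (Orders.j3 h) (p := 19) (by norm_num) (by norm_num) (by norm_num) (by norm_num)
    (by norm_num)

theorem suz_deg8 (h : Cfsg.Spor.IsoSuz S) (hna : ¬ ∀ a b : S, a * b = b * a) : Deg8 S :=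
  deg8_of_card hna (Orders.suz h) (p := 13) (by norm_num) (by norm_num) (by norm_num) (by norm_num)
    (by norm_num)

theorem he_deg8 (h : Cfsg.Spor.IsoHe S) (hna : ¬ ∀ a b : S, a * b = b * a) : Deg8 S :=
  deg8_of_card hna (Orders.he h) (p := 17) (by norm_num) (by norm_num) (by norm_num) (by norm_num)
    (by norm_num)

theorem on_deg8 (h : Cfsg.Spor.IsoON S) (hna : ¬ ∀ a b : S, a * b = b * a) : Deg8 S :=
  deg8_of_card hna (Orders.on h) (p := 31) (by norm_num) (by norm_num) (by norm_num) (by norm_num)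
    (by norm_num)

theorem fi22_deg8 (h : Cfsg.Spor.IsoFi22 S) (hna : ¬ ∀ a b : S, a * b = b * a) : Deg8 S :=
  deg8_of_card hna (Orders.fi22 h) (p := 13) (by norm_num) (by norm_num) (by norm_num) (by norm_num)
    (by norm_num)

theorem fi24_deg8 (h : Cfsg.Spor.IsoFi24' S) (hna : ¬ ∀ a b : S, a * b = b * a) : Deg8 S :=
  deg8_of_card hna (Orders.fi24 h) (p := 29) (by norm_num) (by norm_num) (by norm_num) (by norm_num)
    (by norm_num)

theorem hn_deg8 (h : Cfsg.Spor.IsoHN S) (hna : ¬ ∀ a b : S, a * b = b * a) : Deg8 S :=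
  deg8_of_card hna (Orders.hn h) (p := 19) (by norm_num) (by norm_num) (by norm_num) (by norm_num)
    (by norm_num)

theorem tits_deg8 (h : Cfsg.Lie.IsoTits S) (hna : ¬ ∀ a b : S, a * b = b * a) : Deg8 S :=
  deg8_of_card hna (Orders.tits h) (p := 13) (by norm_num) (by norm_num) (by norm_num) (by norm_num)
    (by norm_num)

end Cfsg.Agent.H727.Orth.SporOne
end

-- part: H727/Orth/TitsRow
section
/-!
# The Tits group

`dData_of_sylow` : a criterion for `DData` with the Sylow `2`-subgroups of a group.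
`tits_evenO` : the Tits group has an even-degree irreducible character of indicator one extending with
indicator one to its stabilizer.
-/

set_option autoImplicit false
set_option linter.unusedSectionVars false
set_option linter.style.haveILetI false

namespace Cfsg.Agent.H727.Orth

open Cfsg.Agent.H694 (pairRel map_conj_one map_conj_conj DData)

universe u

variable {T : Type u} [Group T] [Finite T]

/-- the `2`-subgroups of order `2 ^ n` of `K` are its Sylow subgroups -/
noncomputable def sylEquiv {n m : ℕ} (hm : Odd m) (K : Subgroup T) (hK : Nat.card K = 2 ^ n * m) :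
    {P : Subgroup T // Nat.card P = 2 ^ n ∧ P ≤ K} ≃ Sylow 2 K :=
  haveI : Fact (Nat.Prime 2) := ⟨Nat.prime_two⟩
  have hf : (Nat.card K).factorization 2 = n := by
    have hm0 : m ≠ 0 := by rintro rfl; exact absurd hm (by decide)
    rw [hK, Nat.factorization_mul (by positivity) hm0, Finsupp.add_apply, Nat.Prime.factorization_pow Nat.prime_two,
      Finsupp.single_eq_same, Nat.factorization_eq_zero_of_not_dvd (Nat.two_dvd_ne_zero.2 (Nat.odd_iff.1 hm)),
      add_zero]
  { toFun := fun P => Sylow.ofCard (P.1.subgroupOf K) (by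
      rw [Nat.card_congr (Subgroup.subgroupOfEquivOfLe P.2.2).toEquiv, P.2.1, hf])
    invFun := fun Q => ⟨(Q : Subgroup K).map K.subtype, by
      rw [← Nat.card_congr ((Q : Subgroup K).equivMapOfInjective K.subtype K.subtype_injective).toEquiv,
        Q.card_eq_multiplicity, hf], Subgroup.map_subtype_le _⟩
    left_inv := fun P => Subtype.ext (by
      show (P.1.subgroupOf K).map K.subtype = P.1
      rw [Subgroup.subgroupOf_map_subtype, inf_eq_left.2 P.2.2])
    right_inv := fun Q => Sylow.ext (by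
      show ((Q : Subgroup K).map K.subtype).subgroupOf K = Q
      rw [Subgroup.subgroupOf, Subgroup.comap_map_eq_self_of_injective K.subtype_injective]) }

theorem mem_of_conj_eq {S₀ : Subgroup T} (h : Subgroup.normalizer (S₀ : Set T) = S₀) {g : T}
    (hg : S₀.map (MulAut.conj g).toMonoidHom = S₀) : g ∈ S₀ := by
  rw [← h, Subgroup.mem_normalizer_iff]
  intro x
  constructor
  · intro hx
    rw [← hg]
    exact ⟨x, hx, rfl⟩
  · intro hx
    rw [← hg] at hx
    obtain ⟨y, hy, e⟩ := hx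
    have e' : g * y * g⁻¹ = g * x * g⁻¹ := e
    have : y = x := by simpa using e'
    rwa [← this]

theorem exists_conj_eq {n m : ℕ} (hm : Odd m) (hT : Nat.card T = 2 ^ n * m) {S₀ P : Subgroup T}
    (h0 : Nat.card S₀ = 2 ^ n) (hP : Nat.card P = 2 ^ n) :
    ∃ g : T, S₀.map (MulAut.conj g).toMonoidHom = P := by
  haveI : Fact (Nat.Prime 2) := ⟨Nat.prime_two⟩
  have hf : (Nat.card T).factorization 2 = n := by
    have hm0 : m ≠ 0 := by rintro rfl; exact absurd hm (by decide)
    rw [hT, Nat.factorization_mul (by positivity) hm0, Finsupp.add_apply,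
      Nat.Prime.factorization_pow Nat.prime_two, Finsupp.single_eq_same,
      Nat.factorization_eq_zero_of_not_dvd (Nat.two_dvd_ne_zero.2 (Nat.odd_iff.1 hm)), add_zero]
  let A : Sylow 2 T := Sylow.ofCard S₀ (by rw [h0, hf])
  let B : Sylow 2 T := Sylow.ofCard P (by rw [hP, hf])
  obtain ⟨g, hg⟩ := MulAction.exists_smul_eq T A B
  refine ⟨g, ?_⟩
  have h3 : ((g • A : Sylow 2 T) : Subgroup T) = B := by rw [hg]
  exact h3

/-- **The criterion.** -/
theorem dData_of_sylow {n m : ℕ} (hm : Odd m) (hT : Nat.card T = 2 ^ n * m) (S₀ M₁ : Subgroup T)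
    (h0 : Nat.card S₀ = 2 ^ n) (h1 : Nat.card M₁ = 2 ^ n * 3) (hle : S₀ ≤ M₁)
    (hu : ∀ K : Subgroup T, Nat.card K = 2 ^ n * 3 → S₀ ≤ K → K = M₁)
    (hN : Subgroup.normalizer (S₀ : Set T) = S₀)
    (hQ : ∀ x : Subgroup T, Nat.card x = 2 ^ n → ∃ t ∈ x, t ∈ M₁ ∧ ∃ P : Subgroup T, Nat.card P = 2 ^ n ∧
      P ≤ M₁ ∧ t ∉ P) : DData T := by
  classical
  haveI : Fact (Nat.Prime 2) := ⟨Nat.prime_two⟩
  have hcm : ∀ (g : T) (H : Subgroup T), Nat.card (H.map (MulAut.conj g).toMonoidHom) = Nat.card H :=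
    fun g H => (Nat.card_congr (H.equivMapOfInjective _ (MulAut.conj g).injective).toEquiv).symm
  have hinv : ∀ (g : T) (H K : Subgroup T), H.map (MulAut.conj g).toMonoidHom = K →
      K.map (MulAut.conj g⁻¹).toMonoidHom = H := fun g H K h => map_conj_inv_eq h
  -- conjugacy
  have e : {P : Subgroup T // Nat.card P = 2 ^ n ∧ P ≤ ⊤} ≃ Sylow 2 (⊤ : Subgroup T) :=
    sylEquiv hm ⊤ (by rw [Subgroup.card_top, hT])
  have hconj : ∀ P : Subgroup T, Nat.card P = 2 ^ n → ∃ g : T, S₀.map (MulAut.conj g).toMonoidHom = P :=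
    fun P hP => exists_conj_eq hm hT h0 hP
  have hNP : ∀ P : Subgroup T, Nat.card P = 2 ^ n → ∀ g : T, P.map (MulAut.conj g).toMonoidHom = P → g ∈ P := by
    intro P hP g hg
    obtain ⟨k, rfl⟩ := hconj P hP
    have h3 : S₀.map (MulAut.conj (k⁻¹ * g * k)).toMonoidHom = S₀ := by
      rw [← map_conj_conj, ← map_conj_conj, hg]
      exact hinv _ _ _ rfl
    have h4 := mem_of_conj_eq hN h3
    refine ⟨_, h4, ?_⟩
    show k * (k⁻¹ * g * k) * k⁻¹ = g
    group
  have hUK : ∀ P : Subgroup T, Nat.card P = 2 ^ n → ∃ K : Subgroup T, (Nat.card K = 2 ^ n * 3 ∧ P ≤ K) ∧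
      ∀ K' : Subgroup T, Nat.card K' = 2 ^ n * 3 → P ≤ K' → K' = K := by
    intro P hP
    obtain ⟨k, rfl⟩ := hconj P hP
    refine ⟨M₁.map (MulAut.conj k).toMonoidHom, ⟨by rw [hcm, h1], Subgroup.map_mono hle⟩, ?_⟩
    intro K' hK' hle'
    have h3 : K'.map (MulAut.conj k⁻¹).toMonoidHom = M₁ := by
      apply hu _ (by rw [hcm, hK'])
      rw [← hinv k S₀ _ rfl]
      exact Subgroup.map_mono hle'
    have h4 := hinv _ _ _ h3
    rw [inv_inv] at h4
    exact h4.symm
  have hKc : ∀ K : Subgroup T, Nat.card K = 2 ^ n * 3 → ∃ g : T, M₁.map (MulAut.conj g).toMonoidHom = K := by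
    intro K hK
    obtain ⟨P, hP⟩ := (sylEquiv (m := 3) (by decide) K hK).symm (default : Sylow 2 K)
    obtain ⟨g, hg⟩ := hconj P hP.1
    refine ⟨g, ?_⟩
    obtain ⟨K₁, -, h4⟩ := hUK P hP.1
    rw [h4 K hK hP.2]
    refine h4 _ (by rw [hcm, h1]) ?_
    rw [← hg]
    exact Subgroup.map_mono hle
  -- the function
  let f : Subgroup T → Subgroup T := fun P => if h : Nat.card P = 2 ^ n then (hUK P h).choose else ⊥
  have hfs : ∀ P : Subgroup T, Nat.card P = 2 ^ n → Nat.card (f P) = 2 ^ n * 3 ∧ P ≤ f P := by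
    intro P hP
    have : f P = (hUK P hP).choose := dif_pos hP
    rw [this]
    exact (hUK P hP).choose_spec.1
  have hfu : ∀ P K : Subgroup T, Nat.card P = 2 ^ n → Nat.card K = 2 ^ n * 3 → P ≤ K → f P = K := by
    intro P K hP hK hPK
    have : f P = (hUK P hP).choose := dif_pos hP
    rw [this]
    exact ((hUK P hP).choose_spec.2 K hK hPK).symm
  set 𝒳 : Set (Subgroup T) := {P | Nat.card P = 2 ^ n} with h𝒳
  set 𝒴 : Set (Subgroup T) := {K | Nat.card K = 2 ^ n * 3} with h𝒴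
  have hev : Even (Nat.card (Quotient (pairRel 𝒳 𝒳))) := by
    refine even_pairs 𝒳 𝒴 f ?_ ?_ ?_ ?_ ?_ ?_
    · intro g H hH
      show Nat.card _ = 2 ^ n
      rw [hcm]
      exact hH
    · intro P hP
      exact (hfs P hP).1
    · intro g P hP
      refine hfu _ _ (by rw [hcm]; exact hP) (by rw [hcm]; exact (hfs P hP).1) ?_
      exact Subgroup.map_mono (hfs P hP).2
    · intro K hK
      have hK' : Nat.card K = 2 ^ n * 3 := hK
      have e1 : {P : Subgroup T // P ∈ 𝒳 ∧ f P = K} ≃ {P : Subgroup T // Nat.card P = 2 ^ n ∧ P ≤ K} := by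
        refine Equiv.subtypeEquivRight fun P => ?_
        constructor
        · rintro ⟨h3, rfl⟩
          exact ⟨h3, (hfs P h3).2⟩
        · rintro ⟨h3, h4⟩
          exact ⟨h3, hfu P K h3 hK h4⟩
      rw [Nat.card_congr e1, Nat.card_congr (sylEquiv (m := 3) (by decide) K hK')]
      have P : Sylow 2 K := default
      obtain ⟨hP1, hP2⟩ := ((sylEquiv (m := 3) (by decide) K hK').symm P).2
      have hP3 : ((sylEquiv (m := 3) (by decide) K hK').symm P).1 = (P : Subgroup K).map K.subtype := rfl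
      rw [hP3] at hP1 hP2
      have h5 : Subgroup.normalizer ((P : Subgroup K) : Set K) = P := by
        refine le_antisymm ?_ Subgroup.le_normalizer
        intro g hg
        have h6 : ((P : Subgroup K).map K.subtype).map (MulAut.conj (g : T)).toMonoidHom =
            (P : Subgroup K).map K.subtype := by
          ext x
          constructor
          · rintro ⟨_, ⟨y, hy, rfl⟩, rfl⟩
            exact ⟨g * y * g⁻¹, (Subgroup.mem_normalizer_iff.1 hg y).1 hy, rfl⟩
          · rintro ⟨y, hy, rfl⟩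
            refine ⟨((g⁻¹ * y * g : K) : T), ⟨(g⁻¹ * y * g : K), ?_, rfl⟩, ?_⟩
            · have := (Subgroup.mem_normalizer_iff.1 (inv_mem hg) y).1 hy
              rwa [inv_inv] at this
            · show (g : T) * ((g : T)⁻¹ * y * g) * (g : T)⁻¹ = y
              group
        obtain ⟨z, hz, hzg⟩ := hNP _ hP1 _ h6
        have : z = g := Subtype.ext hzg
        rwa [← this]
      rw [Sylow.card_eq_index_normalizer P]
      show (Subgroup.normalizer ((P : Subgroup K) : Set K)).index = 3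
      rw [h5]
      have h6 := Subgroup.card_mul_index (P : Subgroup K)
      rw [← Nat.card_congr ((P : Subgroup K).equivMapOfInjective K.subtype K.subtype_injective).toEquiv] at hP1
      rw [hP1, hK'] at h6
      exact Nat.eq_of_mul_eq_mul_left (by positivity) h6
    · intro x hx
      have hx' : IsPGroup 2 x := IsPGroup.of_card (n := n) hx
      exact hx'.to_le fun g hg => hNP x hx g hg
    · intro x hx K hK
      obtain ⟨g, rfl⟩ := hKc K hK
      obtain ⟨t, ht, htM, P, hP, hPM, htP⟩ := hQ (x.map (MulAut.conj g⁻¹).toMonoidHom) (by rw [hcm]; exact hx)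
      obtain ⟨s, hs, rfl⟩ := ht
      have hst : ∀ (H : Subgroup T) (s : T), s ∈ H → s ∈ nrm H := by
        intro H s hs
        rw [mem_nrm]
        ext y
        constructor
        · rintro ⟨z, hz, rfl⟩
          exact mul_mem (mul_mem hs hz) (inv_mem hs)
        · intro hy
          refine ⟨s⁻¹ * y * s, mul_mem (mul_mem (inv_mem hs) hy) hs, ?_⟩
          show s * (s⁻¹ * y * s) * s⁻¹ = y
          group
      have hs1 : s = g * (g⁻¹ * s * g⁻¹⁻¹) * g⁻¹ := by group
      refine ⟨s, hst _ _ hs, hst _ _ ?_, P.map (MulAut.conj g).toMonoidHom, ?_, ?_, ?_⟩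
      · refine ⟨_, htM, ?_⟩
        exact hs1.symm
      · show Nat.card _ = 2 ^ n
        rw [hcm]
        exact hP
      · exact hfu _ _ (by rw [hcm]; exact hP) hK (Subgroup.map_mono hPM)
      · intro h3
        obtain ⟨y, hy, hys⟩ := hNP _ (by rw [hcm]; exact hP) _ h3
        apply htP
        have h4 : g * y * g⁻¹ = s := hys
        have h5 : y = g⁻¹ * s * g⁻¹⁻¹ := by rw [← h4]; group
        show g⁻¹ * s * g⁻¹⁻¹ ∈ P
        rw [← h5]
        exact hy
  refine ⟨𝒳, fun α H hH => ?_, ?_⟩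
  · show Nat.card _ = 2 ^ n
    rw [← Nat.card_congr (H.equivMapOfInjective _ α.injective).toEquiv]
    exact hH
  · refine Odd.add_even ?_ hev
    have e1 : 𝒳 ≃ {P : Subgroup T // Nat.card P = 2 ^ n ∧ P ≤ ⊤} :=
      Equiv.subtypeEquivRight fun P => ⟨fun h => ⟨h, le_top⟩, fun h => h.1⟩
    rw [Nat.card_congr (e1.trans e)]
    have := card_sylow_modEq_one 2 (⊤ : Subgroup T)
    exact Nat.odd_iff.2 this

section tits

open Cfsg.Agent.KFacts.TwF4 Cfsg.Agent.KFacts.TwF4.Full Cfsg.Agent.KFacts.TwF4.Arc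
open Cfsg.Agent.KFacts.TwF4.Inv Cfsg.Agent.KFacts.TwF4.SylU
open Cfsg.Agent.SplitTwo Cfsg.Agent.SplitTwo.ZS Cfsg.Agent.TitsThree.RankTwoZ
open Cfsg.Agent.SplitTwo.RootSysZ Subgroup Cfsg Cfsg.Lie Cfsg.Agent.H248.Ovg Cfsg.Agent.H248.TwF4Over
open Cfsg.Agent.H933.TitsBN (bruhat' card_N28 card_N17 card_half eq_one_of_maps dih_maps eq_of_maps)

variable {F : Type*} [Field F] [Finite F] {σ : F →+* F} {G : Type u} [Group G] [Finite G] (S : Full σ G)

theorem dData_full {N : Subgroup G} (h01 : ∀ x : F, x = 0 ∨ x = 1) (T : Two F N)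
    (_hR : S.R.p = 2) (hidx : N.index = 2) {m : ℕ} (hm : Odd m) (hcard : Nat.card N = 2 ^ 11 * m) : DData ↥N := by
  classical
  have hfact : Fact (Nat.Prime 2) := ⟨Nat.prime_two⟩
  haveI hNn : N.Normal := normal_of_index_eq_two hidx
  have hcU : Nat.card (J S.XZ 1 8) = 2 ^ 12 := two_card_U S T
  have hUN : ¬ J S.XZ 1 8 ≤ N := fun h =>
    two_e1_not_mem S T 4 (h (mem_J ((mem_X8 S).2 ⟨1, 0, rfl⟩) (by norm_num) (by norm_num)))
  have h0 : Nat.card ((J S.XZ 1 8).subgroupOf N) = 2 ^ 11 := by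
    have h1 := card_half (N := N) (H := J S.XZ 1 8) hidx hUN
    rw [hcU] at h1
    omega
  have h28 : Nat.card ((normalizer (J S.XZ 2 8 : Set G)).subgroupOf N) = 2 ^ 11 * 3 := by
    have h1 := card_half (N := N) (H := normalizer (J S.XZ 2 8 : Set G)) hidx
      (fun h => hUN (H187.TwF4Par.U_le_norm1.trans h))
    rw [card_N28 S h01, hcU] at h1
    omega
  have h17 : Nat.card ((normalizer (J S.XZ 1 7 : Set G)).subgroupOf N) = 2 ^ 11 * 5 := by
    have h1 := card_half (N := N) (H := normalizer (J S.XZ 1 7 : Set G)) hidx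
      (fun h => hUN (H187.TwF4Par.U_le_norm2.trans h))
    rw [card_N17 S h01, hcU] at h1
    omega
  have hn1 : S.n1 ∈ normalizer (J S.XZ 2 8 : Set G) :=
    mem_normalizer_J (cond_top S) fun x hx => S.n1_refl.mem_J hx (by norm_num) (by norm_num)
  have ho1 : S.o 0 1 ∈ S.XZ 1 := (mem_X1 S).2 ⟨1, rfl⟩
  have he8 : S.e 4 0 1 ∈ S.XZ 8 := (mem_X8 S).2 ⟨0, 1, rfl⟩
  have ho1N : S.o 0 1 ∈ N := two_o_mem S T 0 1
  have he8N : S.e 4 0 1 ∈ N := two_e0_mem S T 4 1
  have ho1U : S.o 0 1 ∈ J S.XZ 1 8 := X_le_J (by norm_num) (by norm_num) ho1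
  have he8U : S.e 4 0 1 ∈ J S.XZ 1 8 := X_le_J (by norm_num) (by norm_num) he8
  have ho9 : S.n1 * S.o 0 1 * S.n1⁻¹ ∈ S.XZ 9 := S.n1_refl.mem' ho1 (by norm_num)
  have ho9' : S.n1⁻¹ * S.o 0 1 * S.n1 ∈ S.XZ 9 := S.n1_refl.mem_inv ho1 (by norm_num)
  have hone : S.o 0 1 ≠ 1 := fun h => one_ne_zero (S.o_eq_one h)
  refine dData_of_sylow hm hcard _ _ h0 h28 (fun x hx => H187.TwF4Par.U_le_norm1 hx) ?_ ?_ ?_
  · intro K hK hle
    have hM : J S.XZ 1 8 ⊓ N ≤ K.map N.subtype := by
      intro x hx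
      exact ⟨⟨x, hx.2⟩, hle hx.1, rfl⟩
    rcases overgroup (two_cond S T) hM with h | h | h
    · exfalso
      have h1 : K = ⊤ := by
        rw [eq_top_iff]
        intro x _
        obtain ⟨y, hy, e⟩ := h x.2
        have : y = x := Subtype.ext e
        rwa [← this]
      rw [h1, Subgroup.card_top] at hK
      have h2 := Subgroup.card_subgroup_dvd_card ((normalizer (J S.XZ 1 7 : Set G)).subgroupOf N)
      rw [hK, h17] at h2
      have h3 := Nat.dvd_of_mul_dvd_mul_left (by positivity) h2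
      norm_num at h3
    · refine Subgroup.eq_of_le_of_card_ge (fun x hx => h (mem_map_of_mem _ hx)) ?_
      rw [hK, h28]
    · exfalso
      have h2 : K ≤ (normalizer (J S.XZ 1 7 : Set G)).subgroupOf N := fun x hx => h (mem_map_of_mem _ hx)
      have h3 := Subgroup.card_dvd_of_le h2
      rw [hK, h17] at h3
      have h4 := Nat.dvd_of_mul_dvd_mul_left (by positivity) h3
      norm_num at h4
  · -- self-normalizing
    refine le_antisymm ?_ Subgroup.le_normalizer
    intro g hg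
    set H := normalizer ((J S.XZ 1 8).subgroupOf N : Set ↥N) with hH
    have hM : J S.XZ 1 8 ⊓ N ≤ H.map N.subtype := by
      intro x hx
      exact ⟨⟨x, hx.2⟩, Subgroup.le_normalizer hx.1, rfl⟩
    have hA : S.n1 ∉ H.map N.subtype := by
      rintro ⟨y, hy, e⟩
      have h1 := (mem_normalizer_iff.1 hy ⟨S.o 0 1, ho1N⟩).1 ho1U
      have h2 : (y : G) * S.o 0 1 * (y : G)⁻¹ ∈ J S.XZ 1 8 := h1
      have e' : (y : G) = S.n1 := e
      rw [e'] at h2
      have h3 := H127.TwFInv.X9_inf_U S ho9 h2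
      apply hone
      have e3 : S.o 0 1 = S.n1⁻¹ * (S.n1 * S.o 0 1 * S.n1⁻¹) * S.n1 := by group
      rw [e3, h3]
      group
    have hB : S.n2 ∉ H.map N.subtype := by
      rintro ⟨y, hy, e⟩
      have h1 := (mem_normalizer_iff.1 hy ⟨S.e 4 0 1, he8N⟩).1 he8U
      have h2 : (y : G) * S.e 4 0 1 * (y : G)⁻¹ ∈ J S.XZ 1 8 := h1
      have e' : (y : G) = S.n2 := e
      rw [e'] at h2
      have h3 := H127.TwFInv.X0_inf_BT S (S.n2_refl.mem' he8 (by norm_num)) (mem_sup_left h2)
      have e3 : S.e 4 0 1 = S.n2⁻¹ * (S.n2 * S.e 4 0 1 * S.n2⁻¹) * S.n2 := by group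
      have h4 : S.e 4 0 1 = 1 := by
        rw [e3, h3]
        group
      exact one_ne_zero (S.e_eq_one h4).2
    obtain ⟨b, hb, w, hw, b', hb', e⟩ := bruhat' S h01 (g : G)
    have hg' : b * w * b' ∈ H.map N.subtype := by
      rw [← e]
      exact mem_map_of_mem _ hg
    rcases types (two_cond S T) hM hb hb' (dih_maps S hw) hg' with h | h | ⟨-, h⟩ | ⟨-, h⟩
    · exact absurd (h ((two_cond S T).n1_mem N inf_le_right inf_le_right)) hA
    · show (g : G) ∈ J S.XZ 1 8
      rw [e, eq_one_of_maps S h01 h, mul_one]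
      exact mul_mem hb hb'
    · exact absurd (n1_mem (two_cond S T) hM h) hA
    · exact absurd (n2_mem (two_cond S T) hM h) hB
  · intro x hx
    obtain ⟨g, rfl⟩ := exists_conj_eq hm hcard h0 hx
    obtain ⟨b, hb, w, hw, b', hb', e⟩ := bruhat' S h01 (g : G)
    -- a root group of type one or nine
    have key : ∃ t₀ n : G, t₀ ∈ N ∧ t₀ ∈ normalizer (J S.XZ 2 8 : Set G) ∧ w⁻¹ * t₀ * w ∈ J S.XZ 1 8 ∧
        n ∈ normalizer (J S.XZ 2 8 : Set G) ∧ n⁻¹ * t₀ * n ∉ J S.XZ 1 8 := by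
      have h1N : S.n1 * S.o 0 1 * S.n1⁻¹ ∈ N := hNn.conj_mem _ ho1N _
      have h1M : S.o 0 1 ∈ normalizer (J S.XZ 2 8 : Set G) := H187.TwF4Par.U_le_norm1 ho1U
      have h9M : S.n1 * S.o 0 1 * S.n1⁻¹ ∈ normalizer (J S.XZ 2 8 : Set G) :=
        mul_mem (mul_mem hn1 h1M) (inv_mem hn1)
      have hk : ∀ (k : ℕ) (f : ZMod (2 * 8) → ZMod (2 * 8)) (t : G), 1 ≤ k → k ≤ 8 → Maps S.R.X w f →
          t ∈ S.R.X (f k) → w⁻¹ * t * w ∈ J S.XZ 1 8 := by
        intro k f t h1 h2 hf ht
        have h3 : w⁻¹ * t * w ∈ S.R.X (k : ZMod (2 * 8)) := by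
          rw [← hf]
          have e : w * (w⁻¹ * t * w) * w⁻¹ = t := by group
          rw [e]
          exact ht
        refine X_le_J (X := S.XZ) (k := (k : ℤ)) (by omega) (by omega) ?_
        rw [xz_eq, Int.cast_natCast]
        exact h3
      have hcase : (∃ (k : ℕ) (f : ZMod (2 * 8) → ZMod (2 * 8)), 1 ≤ k ∧ k ≤ 8 ∧ Maps S.R.X w f ∧ f k = 1) ∨
          (∃ (k : ℕ) (f : ZMod (2 * 8) → ZMod (2 * 8)), 1 ≤ k ∧ k ≤ 8 ∧ Maps S.R.X w f ∧ f k = 9) := by
        have hc1 : ∀ c : ZMod (2 * 8), (∃ k ∈ Finset.Icc 1 8, c + ((k : ℕ) : ZMod (2 * 8)) = 1) ∨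
            (∃ k ∈ Finset.Icc 1 8, c + ((k : ℕ) : ZMod (2 * 8)) = 9) := by decide
        have hc2 : ∀ c : ZMod (2 * 8), (∃ k ∈ Finset.Icc 1 8, c - ((k : ℕ) : ZMod (2 * 8)) = 1) ∨
            (∃ k ∈ Finset.Icc 1 8, c - ((k : ℕ) : ZMod (2 * 8)) = 9) := by decide
        obtain ⟨c, hc | hc⟩ := dih_maps S hw
        · rcases hc1 c with ⟨k, h1, h2⟩ | ⟨k, h1, h2⟩
          · exact Or.inl ⟨k, _, (Finset.mem_Icc.1 h1).1, (Finset.mem_Icc.1 h1).2, hc, h2⟩
          · exact Or.inr ⟨k, _, (Finset.mem_Icc.1 h1).1, (Finset.mem_Icc.1 h1).2, hc, h2⟩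
        · rcases hc2 c with ⟨k, h1, h2⟩ | ⟨k, h1, h2⟩
          · exact Or.inl ⟨k, _, (Finset.mem_Icc.1 h1).1, (Finset.mem_Icc.1 h1).2, hc, h2⟩
          · exact Or.inr ⟨k, _, (Finset.mem_Icc.1 h1).1, (Finset.mem_Icc.1 h1).2, hc, h2⟩
      rcases hcase with ⟨k, f, h1, h2, hf, hfk⟩ | ⟨k, f, h1, h2, hf, hfk⟩
      · refine ⟨S.o 0 1, S.n1, ho1N, h1M, hk k f _ h1 h2 hf ?_, hn1, ?_⟩
        · rw [hfk]
          have := ho1
          rw [xz_eq] at this
          exact_mod_cast this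
        · intro h3
          have h4 := H127.TwFInv.X9_inf_U S ho9' h3
          apply hone
          have e3 : S.o 0 1 = S.n1 * (S.n1⁻¹ * S.o 0 1 * S.n1) * S.n1⁻¹ := by group
          rw [e3, h4]
          group
      · refine ⟨S.n1 * S.o 0 1 * S.n1⁻¹, 1, h1N, h9M, hk k f _ h1 h2 hf ?_, one_mem _, ?_⟩
        · rw [hfk]
          have := ho9
          rw [xz_eq] at this
          exact_mod_cast this
        · intro h3
          rw [inv_one, one_mul, mul_one] at h3
          have h4 := H127.TwFInv.X9_inf_U S ho9 h3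
          apply hone
          have e3 : S.o 0 1 = S.n1⁻¹ * (S.n1 * S.o 0 1 * S.n1⁻¹) * S.n1 := by group
          rw [e3, h4]
          group
    obtain ⟨t₀, n, ht0, htM, htU, hn, htn⟩ := key
    have hbM : b ∈ normalizer (J S.XZ 2 8 : Set G) := H187.TwF4Par.U_le_norm1 hb
    have htN : b * t₀ * b⁻¹ ∈ N := hNn.conj_mem _ ht0 _
    refine ⟨⟨b * t₀ * b⁻¹, htN⟩, ?_, ?_, ((J S.XZ 1 8).map (MulAut.conj (b * n)).toMonoidHom).subgroupOf N,
      ?_, ?_, ?_⟩
    · refine ⟨⟨b'⁻¹ * (w⁻¹ * t₀ * w) * b', ?_⟩, ?_, ?_⟩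
      · have h1 := hNn.conj_mem _ ht0 (b'⁻¹ * w⁻¹)
        have e1 : b'⁻¹ * w⁻¹ * t₀ * (b'⁻¹ * w⁻¹)⁻¹ = b'⁻¹ * (w⁻¹ * t₀ * w) * b' := by group
        rwa [e1] at h1
      · exact mul_mem (mul_mem (inv_mem hb') htU) hb'
      · apply Subtype.ext
        show (g : G) * (b'⁻¹ * (w⁻¹ * t₀ * w) * b') * (g : G)⁻¹ = b * t₀ * b⁻¹
        rw [e]
        group
    · exact mul_mem (mul_mem hbM htM) (inv_mem hbM)
    · have h1 : Nat.card ((J S.XZ 1 8).map (MulAut.conj (b * n)).toMonoidHom) = 2 ^ 12 := by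
        rw [← Nat.card_congr ((J S.XZ 1 8).equivMapOfInjective _ (MulAut.conj (b * n)).injective).toEquiv, hcU]
      have h2 : ¬ (J S.XZ 1 8).map (MulAut.conj (b * n)).toMonoidHom ≤ N := by
        intro h
        apply hUN
        intro y hy
        have h3 := h (mem_map_of_mem _ hy)
        have h4 := hNn.conj_mem _ h3 (b * n)⁻¹
        have e1 : (b * n)⁻¹ * ((MulAut.conj (b * n)).toMonoidHom y) * (b * n)⁻¹⁻¹ = y := by
          show (b * n)⁻¹ * (b * n * y * (b * n)⁻¹) * (b * n)⁻¹⁻¹ = y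
          group
        rwa [e1] at h4
      have h3 := card_half (N := N) hidx h2
      rw [h1] at h3
      omega
    · rintro y ⟨z, hz, hzy⟩
      show (y : G) ∈ normalizer (J S.XZ 2 8 : Set G)
      have h1 : b * n * z * (b * n)⁻¹ = (y : G) := hzy
      rw [← h1]
      exact mul_mem (mul_mem (mul_mem hbM hn) (H187.TwF4Par.U_le_norm1 hz)) (inv_mem (mul_mem hbM hn))
    · rintro ⟨z, hz, hzy⟩
      apply htn
      have h1 : b * n * z * (b * n)⁻¹ = b * t₀ * b⁻¹ := hzy
      have h2 : n⁻¹ * t₀ * n = z := by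
        have : z = (b * n)⁻¹ * (b * n * z * (b * n)⁻¹) * (b * n) := by group
        rw [this, h1]
        group
      rw [h2]
      exact hz

/-- **the Tits group** -/
theorem tits_dData : DData TitsGroup := by
  obtain ⟨hidx, hs, hna, hcard⟩ := Cfsg.Agent.S1074.result
  have hK : Fintype.card (ZMod 2) = 2 ^ (2 * 0 + 1) := by rw [ZMod.card]; rfl
  obtain ⟨φ, hφ⟩ := Cfsg.Agent.ChevalleyStructure.TwF4.TwistedFix.exists_rln hK
  obtain ⟨S, hS⟩ : ∃ S : Full φ ↥(twistedF4 (ZMod 2) 1), S.R.p = 2 := by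
    have h0 : ∃ S : Full φ ↥(twistedF4 (ZMod 2) (2 ^ 0)), S.R.p = 2 :=
      ⟨Cfsg.Agent.KFacts.TwF4.Inst.full hK hφ, rfl⟩
    rw [pow_zero] at h0
    exact h0
  have h01 : ∀ x : ZMod 2, x = 0 ∨ x = 1 := by
    intro x
    fin_cases x
    · exact Or.inl rfl
    · exact Or.inr rfl
  have T : Two (ZMod 2) (commutator ↥(twistedF4 (ZMod 2) 1)) := by
    refine ⟨h01, le_rfl, ?_⟩
    intro h1
    rw [h1, Subgroup.index_top] at hidx
    norm_num at hidx
  have hfin : Finite ↥(twistedF4 (ZMod 2) 1) := inferInstance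
  have hfin0 : Finite (ZMod 2) := inferInstance
  have hodd : Odd (3 ^ 3 * 5 ^ 2 * 13) := by decide
  have hc2 : Nat.card TitsGroup = 2 ^ 11 * (3 ^ 3 * 5 ^ 2 * 13) := by
    rw [hcard]
    norm_num
  exact @dData_full (ZMod 2) _ hfin0 φ _ _ hfin S _ h01 T hS hidx _ hodd hc2

theorem tits_evenO {X : Type*} [Group X] [Finite X] (h : IsoTits X) (hc : Subgroup.center X = ⊥) :
    EvenO X := by
  obtain ⟨e⟩ := h
  have hfin : Finite TitsGroup := Finite.of_equiv _ e.toEquiv
  have h0 : Subgroup.center TitsGroup = ⊥ := by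
    rw [Subgroup.eq_bot_iff_forall] at hc ⊢
    intro z hz
    have h1 := hc (e.symm z) (by
      rw [Subgroup.mem_center_iff] at hz ⊢
      intro g
      have h2 := hz (e g)
      apply e.injective
      rw [map_mul, map_mul, MulEquiv.apply_symm_apply]
      exact h2)
    have h3 := congrArg e h1
    rwa [MulEquiv.apply_symm_apply, map_one] at h3
  have h1 := @evenO_of_dData TitsGroup _ hfin h0 tits_dData
  have e' := e.symm
  exact @EvenO.congr TitsGroup _ X _ hfin _ e' h1

end tits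

end Cfsg.Agent.H727.Orth
end
end

-- part: H727/Orth/LieOdd
section
set_option linter.all false
open scoped Cfsg.Agent.FastGrp

-- part: H610/OddReg3D4
section
/-!
# Regular unipotent classes of `³D₄(q)`, `q` odd

`d4`: `³D₄(q)`, `q` odd, satisfies `OcSet`.
-/

set_option autoImplicit false

namespace Cfsg.Agent.H610.OddReg3D4

open Cfsg Cfsg.Lie Cfsg.Agent.H610.OddReg Cfsg.Agent.H610.OddRegLie
open Cfsg.Agent.H610.ChevRegular (Comp Reg comp_mul comp_one comp_unique comp_simple comp_root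
  odd_centralizer exists_of_mem_borel)
open Cfsg.Agent.H610.Table3D4 (inList twisted_le simple_vals)
open Cfsg.Agent.Schreier.ThreeD4 (tail_le_U drop_le_U xa_eq_zero xb_eq_zero)
open Cfsg.Agent.ChevalleyStructure.D4Fixed (fix twisted_le_fix)
open Cfsg.Agent.ChevalleyStructure
open Cfsg.Agent.ChevalleyStructure.D4Comm
open Cfsg.Agent.ChevalleyStructure.D4Pos
open Cfsg.Agent.ChevalleyStructure.D4U
open Cfsg.Agent.ChevalleyStructure.TwistedU
open Cfsg.Agent.ChevalleyStructure.D4Twisted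

universe u

variable {K : Type u} [Field K] {q : ℕ} {φ : K →+* K}

theorem xG_eq (r : ℕ) (t : K) : (xG r t : GL chevD4.Idx K) = Elts.xG inList r t :=
  Units.ext (by rw [coe_xG, Elts.coe_xG])

/-- The components of an ordered product. -/
theorem comp_lprod {i : ℕ} (hi : i < chevD4.rank) (l : List ℕ) (hl : ∀ s ∈ l, chevD4.IsPosRoot s)
    (t : ℕ → K) : Comp inList i (lprod xG l t)
      ((l.map fun s => if s = chevD4.simple i then t s else 0).sum) := by
  induction l with
  | nil => simpa [lprod_nil] using comp_one (F := K) inList i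
  | cons s l ih =>
    rw [lprod_cons, List.map_cons, List.sum_cons]
    refine comp_mul inList hi ?_ (ih fun s hs => hl s (List.mem_cons_of_mem _ hs))
    rw [xG_eq]
    by_cases h : s = chevD4.simple i
    · rw [if_pos h, h]
      exact comp_simple inList i _
    · rw [if_neg h]
      exact comp_root inList (hl s (by simp)) h _

theorem pos_ordA : ∀ s ∈ ordA, chevD4.IsPosRoot s := by
  intro s hs
  rw [isPosRoot_iff]
  simp only [ordA, List.mem_cons, List.mem_nil_iff, or_false] at hs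
  omega

/-- The components of the elements of `U ∩ G¹`. -/
theorem comp_elt (a b c d e f : K) :
    Comp inList 0 (elt φ a b c d e f) b ∧ Comp inList 1 (elt φ a b c d e f) a ∧
    Comp inList 2 (elt φ a b c d e f) (φ b) ∧ Comp inList 3 (elt φ a b c d e f) (φ (φ b)) := by
  obtain ⟨s0, s1, s2, s3⟩ := simple_vals
  have r0 : 0 < chevD4.rank := by decide
  have r1 : 1 < chevD4.rank := by decide
  have r2 : 2 < chevD4.rank := by decide
  have r3 : 3 < chevD4.rank := by decide
  refine ⟨?_, ?_, ?_, ?_⟩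
  · have := comp_lprod r0 ordA pos_ordA (crd φ a b c d e f)
    rw [s0] at this
    simpa [ordA, crd, elt] using this
  · have := comp_lprod r1 ordA pos_ordA (crd φ a b c d e f)
    rw [s1] at this
    simpa [ordA, crd, elt] using this
  · have := comp_lprod r2 ordA pos_ordA (crd φ a b c d e f)
    rw [s2] at this
    simpa [ordA, crd, elt] using this
  · have := comp_lprod r3 ordA pos_ordA (crd φ a b c d e f)
    rw [s3] at this
    simpa [ordA, crd, elt] using this

theorem reg_elt (a b c d e f : K) : Reg inList (elt φ a b c d e f) ↔ a ≠ 0 ∧ b ≠ 0 := by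
  obtain ⟨h0, h1, h2, h3⟩ := comp_elt (φ := φ) a b c d e f
  have r0 : 0 < chevD4.rank := by decide
  have r1 : 1 < chevD4.rank := by decide
  constructor
  · intro h
    obtain ⟨t, ht, ht'⟩ := h.2 0 r0
    obtain ⟨s, hs, hs'⟩ := h.2 1 r1
    rw [comp_unique inList r0 ht' h0] at ht
    rw [comp_unique inList r1 hs' h1] at hs
    exact ⟨hs, ht⟩
  · rintro ⟨ha, hb⟩
    refine ⟨elt_mem_U a b c d e f, fun i hi => ?_⟩
    have hr : chevD4.rank = 4 := rfl
    have hi4 : i = 0 ∨ i = 1 ∨ i = 2 ∨ i = 3 := by omega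
    rcases hi4 with rfl | rfl | rfl | rfl
    · exact ⟨b, hb, h0⟩
    · exact ⟨a, ha, h1⟩
    · exact ⟨φ b, (map_ne_zero φ).2 hb, h2⟩
    · exact ⟨φ (φ b), (map_ne_zero φ).2 ((map_ne_zero φ).2 hb), h3⟩

theorem elt_a_zero (b c d e f : K) : elt φ 0 b c d e f ∈ RS K ordA.tail := by
  have h1 : elt φ 0 b c d e f = xG 14 0 * lprod xG ordA.tail (crd φ 0 b c d e f) := rfl
  rw [h1, xG_zero, one_mul]
  exact lprod_mem_rspan xG (fun _ h => h) _

theorem elt_b_zero (a c d e f : K) : elt φ a 0 c d e f ∈ RS K (ordB.drop 3) := by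
  have mem : ∀ (r : ℕ) (t : K), r ∈ ordB.drop 3 → xG r t ∈ RS K (ordB.drop 3) := fun r t h =>
    mem_rspan xG (S := {k | k ∈ ordB.drop 3}) h t
  rw [elt_eq, map_zero, map_zero, xG_zero, xG_zero, xG_zero, one_mul, one_mul, mul_one]
  refine mul_mem (mul_mem (mul_mem (mul_mem (mem _ _ (by decide)) ?_) ?_) (mem _ _ (by decide)))
    (mem _ _ (by decide))
  · exact mul_mem (mul_mem (mem _ _ (by decide)) (mem _ _ (by decide))) (mem _ _ (by decide))
  · exact mul_mem (mul_mem (mem _ _ (by decide)) (mem _ _ (by decide))) (mem _ _ (by decide))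

theorem na_not_mem (hφ : ∀ x, φ x = x ^ q) : na K ∉ chevD4.borelSubgroup K := by
  intro h
  have h1 : (xG 14 (1 : K)) ∈ chevD4.borelSubgroup K := by
    have h2 : (xG 14 (1 : K)) ∈ chevD4.posUnipotent K :=
      RS14_le_U (mem_rspan xG (S := {k | k ∈ [14]}) (by simp) _)
    exact Subgroup.mem_sup_left h2
  exact one_ne_zero (xa_eq_zero (mul_mem (mul_mem (inv_mem h) h1) h))

theorem nb_not_mem (hφ : ∀ x, φ x = x ^ q) : nb K ∉ chevD4.borelSubgroup K := by
  intro h
  have h1 : D4Fixed.X φ (1 : K) ∈ chevD4.borelSubgroup K :=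
    Subgroup.mem_sup_left (RSouter_le_U (X_mem_RS _))
  exact one_ne_zero (xb_eq_zero (mul_mem (mul_mem (inv_mem h) h1) h))

theorem d4_oc [Fintype K] (hq : IsPrimePow q) (hK : Fintype.card K = q ^ 3) (hodd : Odd q) :
    OcSet (twistedD4 K q) := by
  classical
  obtain ⟨φ, hφ⟩ := D4Fixed.exists_frob hq hK
  have hle := twisted_le_fix hK hφ
  have hK3 := phi3 hK hφ
  have hfixc := card_fix_field hq.one_lt hK hφ
  have hKodd : Odd (Fintype.card K) := hK ▸ hodd.pow
  obtain ⟨p, m, hp, hm, rfl⟩ := (isPrimePow_nat_iff _).1 hq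
  set q := p ^ m with hqdef
  have hfp : Fact p.Prime := ⟨hp⟩
  have hp2 : p ≠ 2 := by
    rintro rfl
    rw [hqdef, Nat.odd_pow_iff hm.ne'] at hodd
    exact absurd hodd (by decide)
  have hcardU : Nat.card ((chevD4.posUnipotent K).subgroupOf (twistedD4 K q)) = q ^ 12 := by
    rw [← card_U1 hq hK, ← Subgroup.inf_subgroupOf_right]
    exact Nat.card_congr (Subgroup.subgroupOfEquivOfLe inf_le_right).toEquiv
  have hcardH : Nat.card ((chevD4.diagonalSubgroup K).subgroupOf (twistedD4 K q)) =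
      (q - 1) ^ 2 * (q ^ 2 + q + 1) := by
    rw [← Cfsg.Agent.S1106.result hq hK, ← Subgroup.inf_subgroupOf_right]
    exact Nat.card_congr (Subgroup.subgroupOfEquivOfLe inf_le_right).toEquiv
  have hUp : IsPGroup p ((chevD4.posUnipotent K).subgroupOf (twistedD4 K q)) :=
    IsPGroup.of_card (n := m * 12) (by rw [hcardU, hqdef, pow_mul])
  have hindex : ¬ p ∣ ((chevD4.posUnipotent K).subgroupOf (twistedD4 K q)).index := by
    intro h
    have h5 := Subgroup.card_mul_index ((chevD4.posUnipotent K).subgroupOf (twistedD4 K q))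
    rw [hcardU, Cfsg.Agent.S1067.result hq hK, mul_assoc, mul_assoc] at h5
    have hq0 : 0 < q := hq.pos
    have h6 := Nat.eq_of_mul_eq_mul_left (by positivity) h5
    have hpq : p ∣ q := dvd_pow_self p hm.ne'
    rw [h6, hp.dvd_mul, hp.dvd_mul] at h
    rcases h with h | h | h
    · exact not_dvd_pow_sub_one hp hpq hq0 (by norm_num) h
    · exact not_dvd_pow_sub_one hp hpq hq0 (by norm_num) h
    · have h7 : p ∣ q ^ 8 + q ^ 4 := dvd_add (dvd_pow hpq (by norm_num)) (dvd_pow hpq (by norm_num))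
      exact hp.one_lt.ne' (Nat.dvd_one.1 ((Nat.dvd_add_right h7).1 h))
  let U : Sylow p (twistedD4 K q) := hUp.toSylow hindex
  have hU : ∀ y : twistedD4 K q, y ∈ U ↔ y.1 ∈ chevD4.posUnipotent K := fun y => Iff.rfl
  have hr : 0 < chevD4.rank := by decide
  refine ocSet_of hp hp2 U (B := (chevD4.borelSubgroup K).subgroupOf (twistedD4 K q))
    (R := {y | Reg inList y.1}) ?_ ?_ ?_ ?_ ?_ ?_ ?_ (a := q ^ 4) (b := 1) hodd.pow odd_one ?_
  · intro y hy
    exact (hU y).2 hy.1
  · intro h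
    obtain ⟨t, ht, h1⟩ := h.2 0 hr
    exact ht (comp_unique inList hr h1 (comp_one inList 0))
  · intro y hy g hg
    exact mem_borel_of_conj inList hy (twisted_le q g.2) (Subgroup.mem_sup_left ((hU _).1 hg))
  · intro b hb u hu
    exact (hU _).2 (conj_mem_pos inList hb ((hU _).1 hu))
  · intro b hb y hy
    exact Reg.conj hy hb
  · intro y hy hyR
    obtain ⟨a, b, c, d, e, f, ha, he, hf, hy'⟩ := (mem_U_inf_iff hK3 hφ hle y.1).1
      ⟨(hU y).1 hy, y.2⟩
    have hyR' : ¬ Reg inList y.1 := hyR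
    rw [hy', reg_elt, not_and_or, not_not, not_not] at hyR'
    rcases hyR' with h0 | h0
    · refine ⟨⟨na K, na_mem hφ⟩, na_not_mem hφ, (hU _).2 ?_⟩
      show (na K)⁻¹ * y.1 * na K ∈ _
      rw [hy', h0]
      exact tail_le_U (na_inv_RS K (l := ordA.tail) (l' := ordA.tail) (by decide +kernel)
        (elt_a_zero b c d e f))
    · refine ⟨⟨nb K, nb_mem hφ⟩, nb_not_mem hφ, (hU _).2 ?_⟩
      show (nb K)⁻¹ * y.1 * nb K ∈ _
      rw [hy', h0]
      exact drop_le_U (nb_inv_RS K (l := ordB.drop 3) (l' := ordB.drop 3) (by decide +kernel)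
        (elt_b_zero a c d e f))
  · intro y hy
    exact odd_centralizer hKodd inList (twisted_le q) y.2 hy
  · -- the number of regular elements
    have hcardR : Nat.card ({y | Reg inList y.1} : Set (twistedD4 K q)) =
        (q - 1) * (q ^ 3 - 1) * q ^ 8 := by
      let f : ({a : K // φ a = a ∧ a ≠ 0} × {a : K // φ a = a} × {a : K // φ a = a}) ×
          ({b : K // b ≠ 0} × K × K) → ({y | Reg inList y.1} : Set (twistedD4 K q)) := fun x =>
        ⟨⟨elt φ x.1.1 x.2.1 x.2.2.1 x.2.2.2 x.1.2.1 x.1.2.2,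
          ((mem_U_inf_iff hK3 hφ hle _).2 ⟨_, _, _, _, _, _, x.1.1.2.1, x.1.2.1.2, x.1.2.2.2,
            rfl⟩).2⟩, (reg_elt _ _ _ _ _ _).2 ⟨x.1.1.2.2, x.2.1.2⟩⟩
      have hf : Function.Bijective f := by
        constructor
        · rintro ⟨⟨a, e, f⟩, b, c, d⟩ ⟨⟨a', e', f'⟩, b', c', d'⟩ h
          obtain ⟨h1, h2, h3, h4, h5, h6⟩ := elt_inj (congrArg (fun y => y.1.1) h)
          simp only at h1 h2 h3 h4 h5 h6
          rw [Subtype.ext h1, Subtype.ext h5, Subtype.ext h6, Subtype.ext h2, h3, h4]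
        · rintro ⟨y, hy⟩
          obtain ⟨a, b, c, d, e, f, ha, he, hf, hy'⟩ := (mem_U_inf_iff hK3 hφ hle y.1).1
            ⟨hy.1, y.2⟩
          have hy2 : Reg inList y.1 := hy
          rw [hy', reg_elt] at hy2
          refine ⟨((⟨a, ha, hy2.1⟩, ⟨e, he⟩, ⟨f, hf⟩), ⟨b, hy2.2⟩, c, d), ?_⟩
          exact Subtype.ext (Subtype.ext hy'.symm)
      rw [← Nat.card_congr (Equiv.ofBijective f hf)]
      have c1 : Nat.card {a : K // φ a = a ∧ a ≠ 0} = q - 1 := by
        have h1 : Nat.card {a : K // φ a = a} = Nat.card {a : K // φ a = a ∧ a ≠ 0} + 1 := by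
          let g : {a : K // φ a = a} ≃ Option {a : K // φ a = a ∧ a ≠ 0} :=
            { toFun := fun a => if h : (a : K) = 0 then none else some ⟨a, a.2, h⟩
              invFun := fun o => match o with
                | none => ⟨0, map_zero φ⟩
                | some b => ⟨b.1, b.2.1⟩
              left_inv := by
                rintro ⟨a, ha⟩
                by_cases h : a = 0
                · subst h; simp
                · simp [h]
              right_inv := by
                rintro (_ | ⟨b, hb⟩)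
                · simp
                · simp [hb.2] }
          rw [Nat.card_congr g, Finite.card_option]
        rw [hfixc] at h1
        omega
      have c2 : Nat.card {b : K // b ≠ 0} = q ^ 3 - 1 := by
        rw [← hK, ← Nat.card_eq_fintype_card, ← Nat.card_units]
        exact Nat.card_congr unitsEquivNeZero.symm
      simp only [Nat.card_prod]
      rw [c1, c2, hfixc, Nat.card_eq_fintype_card, hK]
      ring
    -- the order of the Borel subgroup
    have hcardB : Nat.card ((chevD4.borelSubgroup K).subgroupOf (twistedD4 K q)) =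
        q ^ 12 * ((q - 1) ^ 2 * (q ^ 2 + q + 1)) := by
      rw [← hcardU, ← hcardH, ← Nat.card_prod]
      let f : ((chevD4.posUnipotent K).subgroupOf (twistedD4 K q)) ×
          ((chevD4.diagonalSubgroup K).subgroupOf (twistedD4 K q)) →
          ((chevD4.borelSubgroup K).subgroupOf (twistedD4 K q)) := fun x =>
        ⟨x.1.1 * x.2.1, mul_mem (Subgroup.mem_sup_left (show x.1.1.1 ∈ _ from x.1.2))
          (Subgroup.mem_sup_right (show x.2.1.1 ∈ _ from x.2.2))⟩
      refine (Nat.card_congr (Equiv.ofBijective f ⟨?_, ?_⟩)).symm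
      · rintro ⟨⟨u, hu⟩, ⟨h, hh⟩⟩ ⟨⟨u', hu'⟩, ⟨h', hh'⟩⟩ e
        have e1 : u * h = u' * h' := congrArg Subtype.val e
        have e2 : u'⁻¹ * u = h' * h⁻¹ := by
          rw [inv_mul_eq_iff_eq_mul, ← mul_assoc, ← e1, mul_inv_cancel_right]
        have e3 : (u'⁻¹ * u).1 ∈ chevD4.posUnipotent K ⊓ chevD4.diagonalSubgroup K := by
          refine Subgroup.mem_inf.2 ⟨mul_mem (inv_mem hu') hu, ?_⟩
          rw [e2]
          exact mul_mem hh' (inv_mem hh)
        rw [(Cfsg.Agent.S1036.result (F := K) chevD4 inList).2, Subgroup.mem_bot] at e3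
        have e4 : u = u' := (inv_mul_eq_one.1 (Subtype.ext e3)).symm
        subst e4
        have e5 : h = h' := mul_left_cancel e1
        subst e5
        rfl
      · rintro ⟨b, hb⟩
        obtain ⟨u, hu, huG, h, hh, hhG, e⟩ :=
          ((tdata hφ hle).mem_B_iff (b : GL chevD4.Idx K) b.2).1 hb
        exact ⟨⟨⟨⟨u, huG⟩, hu⟩, ⟨⟨h, hhG⟩, hh⟩⟩, Subtype.ext (Subtype.ext e.symm)⟩
    rw [hcardR, hcardB]
    have hq1 : q ^ 3 - 1 = (q - 1) * (q ^ 2 + q + 1) := by
      obtain ⟨k, hk⟩ : ∃ k, q = k + 1 := ⟨q - 1, (Nat.sub_add_cancel hq.one_lt.le).symm⟩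
      rw [hk, Nat.add_sub_cancel]
      apply Nat.sub_eq_of_eq_add
      ring
    rw [hq1]
    ring

/-- `³D₄(q)`, `q` odd. -/
theorem d4 {G : Type*} [Group G] [Fintype K] (hK : Fintype.card K = q ^ 3) (hodd : Odd q)
    (e : G ≃* twistedD4 K q) : OcSet G := by
  have hq : IsPrimePow q := by
    have h1 := Fintype.isPrimePow_card_of_field (α := K)
    rw [hK] at h1
    exact (isPrimePow_pow_iff (by norm_num)).1 h1
  exact (d4_oc hq hK hodd).of_equiv e.symm

end Cfsg.Agent.H610.OddReg3D4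
end

-- part: H612/RowB2
section
/-!
# Rank two classical groups in odd characteristic: `DData`

`dData_of_noSwap` : type `B₂` with no automorphism exchanging the two classes of maximal parabolic subgroups.
`dData_PSp4`, `dData_PSU4`, `dData_PSU5`.
-/

set_option autoImplicit false
set_option linter.unusedSectionVars false

namespace Cfsg.Agent.H612.RowB2

open Cfsg Cfsg.Agent.LieExceptional.BNPairCore Cfsg.Agent.Tits.Core Cfsg.Agent.FixBN
open Cfsg.Agent.H288.BnAbs Cfsg.Agent.H288.BnTwo Cfsg.Agent.H694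
open Cfsg.Agent.Omega.ML.Ex.Typ (HasSplitT HasRGDT)

universe u

variable {K : Type u} [Group K] {p : ℕ}

theorem map_conj_map (A : Subgroup K) (g : K) (α : K ≃* K) :
    (A.map (MulAut.conj g).toMonoidHom).map α.toMonoidHom =
      (A.map α.toMonoidHom).map (MulAut.conj (α g)).toMonoidHom := by
  rw [Subgroup.map_map, Subgroup.map_map]
  congr 1
  ext x
  simp

theorem no_map [Finite K] [Fact p.Prime] {U : Sylow p K} {P : Set (Fin 2) → Subgroup K}
    (hP : ParSys p U P)
    (hs : ∀ α : MulAut K, (U : Subgroup K).map α.toMonoidHom = U →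
      (P {0}).map α.toMonoidHom ≠ P {1}) (α : K ≃* K) (g : K) :
    (P {0}).map α.toMonoidHom ≠ (P {1}).map (MulAut.conj g).toMonoidHom := by
  intro h
  let β : MulAut K := MulAut.conj g⁻¹ * (α : MulAut K)
  have hβ : ∀ A : Subgroup K, A.map β.toMonoidHom =
      (A.map α.toMonoidHom).map (MulAut.conj g⁻¹).toMonoidHom := by
    intro A
    rw [Subgroup.map_map]
    rfl
  have h1 : (P {0}).map β.toMonoidHom = P {1} := by
    rw [hβ, h, map_conj_conj, inv_mul_cancel, map_conj_one]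
  let U' : Sylow p K := U.mapSurjective (f := β.toMonoidHom) (MulEquiv.surjective β)
  have hU' : (U' : Subgroup K) = (U : Subgroup K).map β.toMonoidHom := Sylow.coe_mapSurjective _ _
  have h2 : (U' : Subgroup K) ≤ P {1} := by
    rw [hU', ← h1]
    exact Subgroup.map_mono (hP.U_le {0})
  obtain ⟨c, hc, hcU⟩ := exists_conj_le U U' (hP.U_le {1}) h2
  have hγ : ∀ A : Subgroup K, A.map (MulAut.conj c * β : MulAut K).toMonoidHom =
      (A.map β.toMonoidHom).map (MulAut.conj c).toMonoidHom := by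
    intro A
    rw [Subgroup.map_map]
    rfl
  refine hs (MulAut.conj c * β) ?_ ?_
  · rw [hγ, ← hU', hcU]
  · rw [hγ, h1]
    ext x
    constructor
    · rintro ⟨y, hy, rfl⟩
      exact mul_mem (mul_mem hc hy) (inv_mem hc)
    · intro hx
      refine ⟨c⁻¹ * x * c, mul_mem (mul_mem (inv_mem hc) hx) hc, ?_⟩
      show c * (c⁻¹ * x * c) * c⁻¹ = x
      group

theorem sub_ne : ∀ i : Fin 2, 1 - i ≠ i := by decide

theorem fin_two {k j : Fin 2} (h : k ≠ j) (l : Fin 2) : l = k ∨ l = j := by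
  revert h l
  revert k j
  decide

theorem ident [Finite K] [Fact p.Prime] {U : Sylow p K} {P : Set (Fin 2) → Subgroup K}
    (hP : ParSys p U P) {Q : Cfsg.BNPair K} {V : Subgroup K} (S : Split Q p V) (e : Fin 2 ≃ Q.S) :
    ∃ (g : K) (σ : Fin 2 → Fin 2), Function.Injective σ ∧
      ∀ i, (PJ Q e {i}).map (MulAut.conj g).toMonoidHom = P {σ i} := by
  obtain ⟨V', hV'⟩ := CharTwo.exists_sylow S
  obtain ⟨g, hg⟩ := MulAction.exists_smul_eq K V' U
  have h1 : V.map (MulAut.conj g).toMonoidHom = (U : Subgroup K) := by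
    rw [← hg, ← hV']
    rfl
  have h2 : Q.B.map (MulAut.conj g).toMonoidHom =
      Subgroup.normalizer ((U : Subgroup K) : Set K) := by
    rw [← S.normalizer_eq, ← h1]
    exact Subgroup.map_equiv_normalizer_eq V (MulAut.conj g)
  have hinj : Function.Injective (fun i => (e i : K)) := fun i j h => e.injective (Subtype.ext h)
  have hPJ : ∀ {J L : Set (Fin 2)}, PJ Q e J = PJ Q e L → J = L := by
    intro J L h
    exact hinj.image_injective (Cfsg.Agent.S0314.result Q (PJ_sub e J) (PJ_sub e L) h)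
  have hcinj : Function.Injective (fun A : Subgroup K => A.map (MulAut.conj g).toMonoidHom) :=
    Subgroup.map_injective (MulAut.conj g).injective
  have h3 : ∀ i, ∃ j, (PJ Q e {i}).map (MulAut.conj g).toMonoidHom = P {j} := by
    intro i
    obtain ⟨J, hJ⟩ := hP.surj ((PJ Q e {i}).map (MulAut.conj g).toMonoidHom) (by
      rw [← h2]
      exact Subgroup.map_mono (B_le_PJ e {i}))
    have hJ0 : J ≠ ∅ := by
      rintro rfl
      obtain ⟨L, hL⟩ := hP.surj _ le_rfl
      have h4 : P ∅ = Subgroup.normalizer ((U : Subgroup K) : Set K) := by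
        apply le_antisymm _ (hP.norm_le ∅)
        rw [hL, hP.le_iff]
        exact Set.empty_subset _
      rw [h4, ← h2] at hJ
      have h5 : PJ Q e {i} = PJ Q e ∅ := by
        rw [hcinj hJ]
        unfold PJ
        rw [Set.image_empty]
        show Q.B = Q.B ⊔ Subgroup.closure ∅
        rw [Subgroup.closure_empty, sup_bot_eq]
      exact Set.singleton_ne_empty i (hPJ h5)
    have hJ1 : J ≠ Set.univ := by
      rintro rfl
      rw [hP.top] at hJ
      have h4 : PJ Q e {i} = ⊤ := by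
        apply hcinj
        show Subgroup.map _ _ = Subgroup.map _ ⊤
        rw [hJ, Subgroup.map_top_of_surjective _ (MulAut.conj g).surjective]
      have h5 : PJ Q e {i} = PJ Q e Set.univ := by
        apply le_antisymm _ (h4 ▸ le_top)
        exact sup_le_sup_left (Subgroup.closure_mono (Set.image_mono (Set.subset_univ _))) _
      have h6 : (1 - i) ∈ ({i} : Set (Fin 2)) := by rw [hPJ h5]; trivial
      rw [Set.mem_singleton_iff] at h6
      exact sub_ne i h6
    have h4 : ∃ j, J = {j} := by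
      obtain ⟨j, hj⟩ := Set.nonempty_iff_ne_empty.2 hJ0
      refine ⟨j, ?_⟩
      ext k
      rw [Set.mem_singleton_iff]
      constructor
      · intro hk
        by_contra hne
        apply hJ1
        ext l
        refine ⟨fun _ => trivial, fun _ => ?_⟩
        rcases fin_two hne l with rfl | rfl
        · exact hk
        · exact hj
      · rintro rfl
        exact hj
    obtain ⟨j, rfl⟩ := h4
    exact ⟨j, hJ⟩
  choose σ hσ using h3
  refine ⟨g, σ, ?_, hσ⟩
  intro i j hij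
  have h4 : PJ Q e {i} = PJ Q e {j} := hcinj (by
    show Subgroup.map _ _ = Subgroup.map _ _
    rw [hσ, hσ, hij])
  exact Set.singleton_injective (hPJ h4)

/-- **Type `B₂` without exchange of the parabolic subgroups.** -/
theorem dData_of_noSwap [Finite K] (hp : p.Prime) (hp2 : p ≠ 2)
    (hK : HasSplitT p (CoxeterMatrix.B 2) K) (h : NoSwap p K) : DData K := by
  obtain ⟨P, U, e, S, hN, cs, hcs⟩ := hK
  have : Fact p.Prime := ⟨hp⟩
  obtain ⟨U', R, hR, hs⟩ := h
  obtain ⟨g, σ, hσi, hσ⟩ := ident hR S e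
  have h1 : {i : Fin 2 | Cfsg.Agent.H694.cB 2 i = 0} = {1} := by
    ext i
    show cB 2 i = 0 ↔ i = 1
    revert i
    decide
  refine dData_of_subgroup (normalizer_PJ e {i | cB 2 i = 0}) ?_ ?_
  · rw [h1]
    intro α
    obtain ⟨τ, -, h⟩ := exists_type_perm e cs hcs S α
    obtain ⟨t, ht⟩ := h {1}
    rw [Set.image_singleton] at ht
    by_cases hτ : τ 1 = 1
    · rw [hτ] at ht
      exact ⟨t, ht⟩
    exfalso
    have hτ0 : τ 1 = 0 := by
      revert hτ
      generalize τ 1 = x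
      revert x
      decide
    rw [hτ0] at ht
    -- `PJ {1} ↦ PJ {0}` up to conjugation
    have hback : ∀ i, PJ P e {i} = (R {σ i}).map (MulAut.conj g⁻¹).toMonoidHom := by
      intro i
      rw [← hσ, map_conj_conj, inv_mul_cancel, map_conj_one]
    have h2 : (R {σ 1}).map α.toMonoidHom =
        (R {σ 0}).map (MulAut.conj (α g * (t * g⁻¹))).toMonoidHom := by
      have h3 : R {σ 1} = (PJ P e {1}).map (MulAut.conj g).toMonoidHom := (hσ 1).symm
      rw [h3, map_conj_map, ht, map_conj_conj]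
      have h4 := hback 0
      conv_lhs => rw [h4]
      rw [map_conj_conj]
      congr 3
      group
    have h01 : σ 0 ≠ σ 1 := fun h => absurd (hσi h) (by decide)
    have hcase : (σ 1 = 0 ∧ σ 0 = 1) ∨ (σ 1 = 1 ∧ σ 0 = 0) := by
      revert h01
      generalize σ 0 = x
      generalize σ 1 = y
      revert x y
      decide
    rcases hcase with ⟨h5, h6⟩ | ⟨h5, h6⟩
    · rw [h5, h6] at h2
      exact no_map hR hs α _ h2
    · rw [h5, h6] at h2
      generalize α g * (t * g⁻¹) = x at h2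
      have h3 : ((R {1}).map α.toMonoidHom).map α.symm.toMonoidHom =
          ((R {0}).map (MulAut.conj x).toMonoidHom).map α.symm.toMonoidHom := by rw [h2]
      rw [Cfsg.Agent.H694.map_map_symm α (R {1}), map_conj_map] at h3
      refine no_map hR hs α.symm (α.symm x)⁻¹ ?_
      rw [h3, map_conj_conj, inv_mul_cancel, map_conj_one]
  · have : Finite (Tits.OfBN.WP P) := inferInstance
    obtain ⟨h2, h3⟩ := parity_B (le_refl 2) cs
    have h4 := index_mod e cs hcs (hp.odd_of_ne_two hp2) S {i | cB 2 i = 0}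
    rw [card_double e cs hcs, Nat.odd_iff, Nat.add_mod, h4, h2, h3]

theorem dData_of_rgd [Finite K] [IsSimpleGroup K] (hp : p.Prime) (hp2 : p ≠ 2)
    (hK : HasRGDT p (CoxeterMatrix.B 2) K) (h : NoSwap p K) : DData K :=
  dData_of_noSwap hp hp2 (hK.hasSplitT hp (by norm_num)) h

/-- **`PSp_4(q)`, `q` odd** -/
theorem dData_PSp4 {F : Type u} [Field F] [Finite F] (h2 : (2 : F) ≠ 0) [IsSimpleGroup (PSp 2 F)] :
    DData (PSp 2 F) := by
  obtain ⟨p, hp⟩ := CharP.exists F
  have hp1 : p.Prime := CharP.char_is_prime F p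
  have : Fact p.Prime := ⟨hp1⟩
  have hp2 : p ≠ 2 := by
    rintro rfl
    exact h2 (by exact_mod_cast CharP.cast_eq_zero F 2)
  have : Finite (PSp 2 F) := inferInstance
  exact dData_of_rgd hp1 hp2 (Omega.ML.Ex.Typ.typ_PSp (by norm_num)) (H288.BnWitt.noSwap_PSp h2)

/-- **`PSU_4(q)`, `q` odd** -/
theorem dData_PSU4 {F : Type u} [Field F] [Fintype F] {q : ℕ} (hF : Fintype.card F = q ^ 2)
    (h2 : (2 : F) ≠ 0) [IsSimpleGroup (PSU 4 F q)] : DData (PSU 4 F q) := by
  obtain ⟨p, hp⟩ := CharP.exists F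
  have hp1 : p.Prime := CharP.char_is_prime F p
  have : Fact p.Prime := ⟨hp1⟩
  have hp2 : p ≠ 2 := by
    rintro rfl
    exact h2 (by exact_mod_cast CharP.cast_eq_zero F 2)
  obtain ⟨m, hm, h⟩ := Omega.ML.Ex.Typ.typ_PSU hF (N := 4) (by norm_num) (p := p)
  have hm2 : m = 2 := by omega
  subst hm2
  exact dData_of_rgd hp1 hp2 h (H288.BnWitt.noSwap_PSU4 hF)

/-- **`PSU_5(q)`, `q` odd** -/
theorem dData_PSU5 {F : Type u} [Field F] [Fintype F] {q : ℕ} (hF : Fintype.card F = q ^ 2)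
    (h2 : (2 : F) ≠ 0) [IsSimpleGroup (PSU 5 F q)] : DData (PSU 5 F q) := by
  obtain ⟨p, hp⟩ := CharP.exists F
  have hp1 : p.Prime := CharP.char_is_prime F p
  have : Fact p.Prime := ⟨hp1⟩
  have hp2 : p ≠ 2 := by
    rintro rfl
    exact h2 (by exact_mod_cast CharP.cast_eq_zero F 2)
  obtain ⟨m, hm, h⟩ := Omega.ML.Ex.Typ.typ_PSU hF (N := 5) (by norm_num) (p := p)
  have hm2 : m = 2 := by omega
  subst hm2
  exact dData_of_rgd hp1 hp2 h (H288.BnWitt.noSwap_PSU5 hF)

end Cfsg.Agent.H612.RowB2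
end

-- part: H727/Orth/LieOdd
section
/-!
# The simple groups of Lie type of odd characteristic

`evenO_lie_odd` : every simple group of Lie type of odd characteristic other than `PSL(2, q)` satisfies
`EvenO`.
-/

set_option autoImplicit false
set_option linter.unusedSectionVars false
set_option linter.style.haveILetI false

namespace Cfsg.Agent.H727.Orth

open Cfsg Cfsg.Agent.Omega.ML.Ex.Typ
open Cfsg.Agent.H694 (DData dData_A dData_B dData_D dData_D4 dData_F4 dData_E6 dData_E7 dData_E8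
  odd_cardF two_ne_zero_of_oddCard)

universe u

variable {S : Type u} [Group S] [Finite S]

theorem evenO_of_ocSet (hc : Subgroup.center S = ⊥) (h : H610.OddReg.OcSet S) : EvenO S := by
  obtain ⟨Y, h1, h2, h3⟩ := h
  exact evenO_of_odd_classes hc Y h1 (fun y hy => ⟨(h2 y hy).1, (h2 y hy).2.2.1, (h2 y hy).2.2.2⟩) h3

theorem simple_of_equiv [IsSimpleGroup S] {X : Type*} [Group X] (e : S ≃* X) : IsSimpleGroup X :=
  have : Nontrivial X := e.symm.toEquiv.nontrivial
  IsSimpleGroup.isSimpleGroup_of_surjective e.toMonoidHom e.surjective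

theorem center_bot_of_equiv {X : Type*} [Group X] (e : S ≃* X) (h : Subgroup.center S = ⊥) :
    Subgroup.center X = ⊥ := by
  rw [eq_bot_iff] at h ⊢
  intro x hx
  have h1 : e.symm x ∈ Subgroup.center S := by
    rw [Subgroup.mem_center_iff] at hx ⊢
    intro s
    apply e.injective
    rw [map_mul, map_mul, e.apply_symm_apply]
    exact hx (e s)
  have h2 := h h1
  rw [Subgroup.mem_bot] at h2 ⊢
  exact (EmbeddingLike.map_eq_one_iff (f := e.symm)).1 h2

theorem evenO_of_typeB [IsSimpleGroup S] (hc : Subgroup.center S = ⊥) {p : ℕ} (hp : p.Prime) (hp2 : p ≠ 2) {m : ℕ}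
    (hm : 3 ≤ m) (h : HasRGDT p (CoxeterMatrix.B m) S) : EvenO S :=
  evenO_of_dData hc (dData_B hm hp hp2 (h.hasSplitT hp (by omega)))

/-- **The small Ree groups.** -/
theorem evenO_ree (hc : Subgroup.center S = ⊥) (h : Lie.IsoRee S) : EvenO S := by
  obtain ⟨K, i1, i2, m, hm, hK, ⟨e⟩⟩ := h
  obtain ⟨y, h1, h2, h3⟩ := H610.TableRee.ree (G := ↥(Lie.twistedG2 K (3 ^ m)))
    ⟨K, i1, i2, m, hm, hK, ⟨MulEquiv.refl _⟩⟩
  have hfin : Finite ↥(Lie.twistedG2 K (3 ^ m)) := Finite.of_equiv S e.toEquiv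
  have hc' := center_bot_of_equiv e hc
  have ho : Odd (MulAut.conj : ↥(Lie.twistedG2 K (3 ^ m)) →* _).range.index := by
    have h4 : (MulAut.conj : ↥(Lie.twistedG2 K (3 ^ m)) →* _).range.index = 2 * m + 1 :=
      Cfsg.Agent.S2127.result hm hK
    rw [h4]
    exact ⟨m, rfl⟩
  refine EvenO.congr e.symm (oext_of_loc hc' (locS_of_odd h1 h2 h3) _ ho ?_)
  rintro _ ⟨s, rfl⟩
  exact ⟨s, Or.inl rfl⟩

variable [IsSimpleGroup S] {p : ℕ}

/-- **The groups of Lie type of odd characteristic.** -/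
theorem evenO_lie_odd (hc : Subgroup.center S = ⊥) (hp : p.Prime) (hp2 : p ≠ 2)
    (h : IsLieTypeChar p S)
    (hpsl : ¬ ∃ (F : Type) (_ : Field F) (_ : Fintype F),
      Nonempty (S ≃* Matrix.ProjectiveSpecialLinearGroup (Fin 2) F)) : EvenO S := by
  have hfp : Fact p.Prime := ⟨hp⟩
  rcases h with h | h | h | h | h | h | h | h | h | h | h
  · obtain ⟨F, i1, i2, _, n, hn, h4, ⟨e⟩⟩ := h
    have hodd := odd_cardF (F := F) hp hp2
    rcases Nat.lt_or_ge n 4 with h5 | h5
    · interval_cases n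
      · exact absurd ⟨F, i1, i2, ⟨e⟩⟩ hpsl
      · obtain ⟨p', h6⟩ := H610.OddThree.psl_three_row hodd e
        exact evenO_of_ocSet hc (H610.OddReg.OcSet.of_ocAt h6)
    · obtain ⟨n, rfl⟩ : ∃ k, n = k + 1 := ⟨n - 1, by omega⟩
      exact evenO_of_dData hc (dData_A (n := n) (by omega) hp hp2
        (((typ_PSL (F := F) (p := p) n).of_equiv e.symm).hasSplitT hp (by omega)))
  · obtain ⟨F, _, _, _, m, hm, -, ⟨e⟩⟩ := h
    rcases Nat.lt_or_ge m 3 with h5 | h5
    · have : m = 2 := by omega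
      subst this
      have hs := simple_of_equiv e
      have h2 : (2 : F) ≠ 0 := two_ne_zero_of_oddCard (odd_cardF (F := F) hp hp2)
      have hfin : Finite (PSp 2 F) := Finite.of_equiv S e.toEquiv
      exact EvenO.congr e.symm (evenO_of_dData (center_bot_of_equiv e hc) (H612.RowB2.dData_PSp4 h2))
    · exact evenO_of_typeB hc hp hp2 h5 ((typ_PSp (F := F) (p := p) (by omega)).of_equiv e.symm)
  · obtain ⟨F, _, _, _, n, q, hF, hn, -, ⟨e⟩⟩ := h
    have hodd := odd_cardF (F := F) hp hp2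
    have h2 : (2 : F) ≠ 0 := two_ne_zero_of_oddCard hodd
    have hq : Odd q := by
      rw [hF] at hodd
      exact Nat.Odd.of_mul_left (by rwa [sq] at hodd)
    rcases Nat.lt_or_ge n 6 with h5 | h5
    · interval_cases n
      · obtain ⟨p', h6⟩ := H610.OddThree.psu_three_row hF hq e
        exact evenO_of_ocSet hc (H610.OddReg.OcSet.of_ocAt h6)
      · have hs := simple_of_equiv e
        have hfin : Finite (PSU 4 F q) := Finite.of_equiv S e.toEquiv
        exact EvenO.congr e.symm (evenO_of_dData (center_bot_of_equiv e hc) (H612.RowB2.dData_PSU4 hF h2))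
      · have hs := simple_of_equiv e
        have hfin : Finite (PSU 5 F q) := Finite.of_equiv S e.toEquiv
        exact EvenO.congr e.symm (evenO_of_dData (center_bot_of_equiv e hc) (H612.RowB2.dData_PSU5 hF h2))
    · obtain ⟨m, hm, h6⟩ := typ_PSU (F := F) (p := p) hF hn
      exact evenO_of_typeB hc hp hp2 (by omega) (h6.of_equiv e.symm)
  · obtain ⟨F, _, _, _, m, hm, hodd, ⟨e⟩⟩ := h
    have h2 : (2 : F) ≠ 0 := two_ne_zero_of_oddCard hodd
    exact evenO_of_typeB hc hp hp2 (by omega)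
      ((H580.LieFam.typ_PO_odd (p := p) h2 (by omega)).of_equiv e.symm)
  · obtain ⟨F, _, _, _, m, hm, ⟨e⟩⟩ := h
    obtain ⟨n, rfl⟩ := Nat.exists_eq_add_of_le (show 3 ≤ m by omega)
    have h1 : HasRGDT p (Nodes.TypeD.M (n + 1)) S := by
      rw [add_comm 3 n] at e
      exact (typ_PO_plus (F := F) n).of_equiv e.symm
    rcases Nat.lt_or_ge n 2 with h5 | h5
    · have : n = 1 := by omega
      subst this
      exact evenO_of_dData hc (dData_D4 hp hp2 (h1.hasSplitT hp (by norm_num)))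
    · exact evenO_of_dData hc (dData_D (n := n + 1) (by omega) hp hp2 (h1.hasSplitT hp (by omega)))
  · obtain ⟨F, _, _, _, m, a, b, hm, hab, ⟨e⟩⟩ := h
    exact evenO_of_typeB hc hp hp2 (by omega)
      ((typ_PO_minus (F := F) (p := p) hab (by omega)).of_equiv e.symm)
  · obtain ⟨F, _, _, _, ⟨-, ⟨e⟩⟩ | ⟨⟨e⟩⟩ | ⟨⟨e⟩⟩ | ⟨⟨e⟩⟩ | ⟨⟨e⟩⟩⟩ := h
    · exact evenO_of_ocSet hc (H610.OddRegLie.g2 (odd_cardF (F := F) hp hp2) e)
    · exact evenO_of_dData hc (dData_F4 hp hp2 (((typ_group (by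
        simp [Cfsg.Agent.Nodes.RGDChev.IsType, Cfsg.Agent.Nodes.RGDChev.typeList]) F p :
          HasRGDT p CoxeterMatrix.F₄ ↥(Lie.chevF4.group F)).of_equiv e.symm).hasSplitT hp (by norm_num)))
    · exact evenO_of_dData hc (dData_E6 hp hp2 (((typ_group (by
        simp [Cfsg.Agent.Nodes.RGDChev.IsType, Cfsg.Agent.Nodes.RGDChev.typeList]) F p :
          HasRGDT p CoxeterMatrix.E₆ ↥(Lie.chevE6.group F)).of_equiv e.symm).hasSplitT hp (by norm_num)))
    · exact evenO_of_dData hc (dData_E7 hp hp2 (((typ_group (by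
        simp [Cfsg.Agent.Nodes.RGDChev.IsType, Cfsg.Agent.Nodes.RGDChev.typeList]) F p :
          HasRGDT p CoxeterMatrix.E₇ ↥(Lie.chevE7.group F)).of_equiv e.symm).hasSplitT hp (by norm_num)))
    · exact evenO_of_dData hc (dData_E8 hp hp2 (((typ_group (by
        simp [Cfsg.Agent.Nodes.RGDChev.IsType, Cfsg.Agent.Nodes.RGDChev.typeList]) F p :
          HasRGDT p CoxeterMatrix.E₈ ↥(Lie.chevE8.group F)).of_equiv e.symm).hasSplitT hp (by norm_num)))
  · obtain ⟨K, _, _, _, q, hq, ⟨hK, ⟨e⟩⟩ | ⟨hK, ⟨e⟩⟩⟩ := h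
    · exact evenO_of_dData hc (dData_F4 hp hp2
        (((typ_twE6 hq hK p).of_equiv e.symm).hasSplitT hp (by norm_num)))
    · have hodd := odd_cardF (F := K) hp hp2
      have hq' : Odd q := by
        rw [hK, pow_succ] at hodd
        exact Nat.Odd.of_mul_right hodd
      exact evenO_of_ocSet hc (H610.OddReg3D4.d4 hK hq' e)
  · exact absurd h.1 hp2
  · exact absurd h.1 hp2
  · exact evenO_ree hc h.2

end Cfsg.Agent.H727.Orth
end

private theorem dce_5109451ab347 : _root_.True := by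
  try have : _root_.True := by simp only [_root_.Cfsg.Agent.ChevalleyStructure.D4Pos.ordA.eq_1]
  try have : _root_.True := by simp only [_root_.Cfsg.Agent.ChevalleyStructure.D4U.elt.eq_1]
  exact _root_.True.intro
end
end
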